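import Mathlib.RingTheory.AdicCompletion.Functoriality

/-!
Completion of a completion.  `M^ = AdicCompletion I M`, `K n` the kernel of `M^ → M / I^n M`.

* `retr`, `retr_of`: the canonical map `M^ → M^^` has a linear retraction.
* `mem_pow_smul_top_iff`: if `M^` is `I`-adically complete then `K n = I ^ n M^`.
* `isAdicComplete_iff`: `M^` is `I`-adically complete iff every element of `M^` is congruent to an
  element of `M` modulo `I ^ n M^` for all `n`.
-/

set_option autoImplicit false
universe u v w

open AdicCompletion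

namespace K91.Compl

variable {A : Type u} [CommRing A] (I : Ideal A) (M : Type v) [AddCommGroup M] [Module A M]

/-- the map `M^/I^n M^ → M/I^n M`. -/
noncomputable def quotEval (n : ℕ) :
    (AdicCompletion I M ⧸ (I ^ n • ⊤ : Submodule A (AdicCompletion I M))) →ₗ[A]
      M ⧸ (I ^ n • ⊤ : Submodule A M) :=
  Submodule.liftQ _ (eval I M n) (pow_smul_top_le_ker_eval I n)

theorem quotEval_mk (n : ℕ) (x : AdicCompletion I M) :
    quotEval I M n (Submodule.Quotient.mk x) = x.val n := rfl

/-- the retraction `M^^ → M^`. -/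
noncomputable def retr : AdicCompletion I (AdicCompletion I M) →ₗ[A] AdicCompletion I M :=
  AdicCompletion.lift I (fun n => quotEval I M n ∘ₗ eval I (AdicCompletion I M) n) (by
    intro m n hle
    refine LinearMap.ext fun x => ?_
    obtain ⟨y, hy⟩ := Submodule.Quotient.mk_surjective _ (x.val n)
    have h1 : x.val m = Submodule.Quotient.mk y := by
      rw [← transitionMap_comp_eval_apply I _ hle x, ← hy]
      rfl
    simp only [LinearMap.comp_apply, eval_apply]
    rw [h1, ← hy, quotEval_mk, quotEval_mk]
    exact transitionMap_comp_eval_apply I _ hle y)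

theorem retr_val (x : AdicCompletion I (AdicCompletion I M)) (n : ℕ) :
    (retr I M x).val n = quotEval I M n (x.val n) := by
  rfl

theorem retr_of (x : AdicCompletion I M) : retr I M (of I (AdicCompletion I M) x) = x := by
  ext n
  rw [retr_val]
  rfl

/-- `M^^ → M^` also retracts the completion of `M → M^`. -/
theorem retr_map_of (x : AdicCompletion I M) :
    retr I M (AdicCompletion.map I (of I M) x) = x := by
  induction x using AdicCompletion.induction_on with
  | h f =>
    ext n
    rw [retr_val, map_mk]
    rfl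

theorem val_eq_zero_of_mem {n : ℕ} {x : AdicCompletion I M}
    (hx : x ∈ (I ^ n • ⊤ : Submodule A (AdicCompletion I M))) : x.val n = 0 :=
  pow_smul_top_le_ker_eval I n hx

theorem exists_sub_of_mem [IsAdicComplete I (AdicCompletion I M)] (n : ℕ)
    (x : AdicCompletion I M) : ∃ y : M,
        x - AdicCompletion.of I M y ∈ (I ^ n • ⊤ : Submodule A (AdicCompletion I M)) := by
  have hbij := AdicCompletion.of_bijective I (AdicCompletion I M)
  have h1 : AdicCompletion.of I (AdicCompletion I M) x = AdicCompletion.map I (of I M) x := by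
    obtain ⟨z, hz⟩ := hbij.2 (AdicCompletion.map I (of I M) x)
    have : z = x := by
      rw [← retr_of I M z, hz, retr_map_of]
    rw [← this, hz, this]
  obtain ⟨f, rfl⟩ := AdicCompletion.mk_surjective I M x
  refine ⟨f n, ?_⟩
  have h2 := congrArg (fun t => t.val n) h1
  simp only [map_mk] at h2
  rw [← Submodule.Quotient.mk_eq_zero, Submodule.Quotient.mk_sub, sub_eq_zero]
  exact h2

theorem mem_pow_smul_top_of_exists
    (h : ∀ (n : ℕ) (x : AdicCompletion I M), ∃ y : M,
        x - AdicCompletion.of I M y ∈ (I ^ n • ⊤ : Submodule A (AdicCompletion I M)))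
    {n : ℕ} {x : AdicCompletion I M} (hx : x.val n = 0) :
    x ∈ (I ^ n • ⊤ : Submodule A (AdicCompletion I M)) := by
  obtain ⟨y, hy⟩ := h n x
  have h1 := val_eq_zero_of_mem I M hy
  rw [AdicCompletion.val_sub_apply, hx, zero_sub, neg_eq_zero] at h1
  have h2 : y ∈ (I ^ n • ⊤ : Submodule A M) := (Submodule.Quotient.mk_eq_zero _).1 h1
  have h3 : AdicCompletion.of I M y ∈ (I ^ n • ⊤ : Submodule A (AdicCompletion I M)) := by
    have h4 : AdicCompletion.of I M y ∈ (I ^ n • ⊤ : Submodule A M).map (of I M) :=
      ⟨y, h2, rfl⟩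
    rw [Submodule.map_smul''] at h4
    exact Submodule.smul_mono le_rfl le_top h4
  simpa using Submodule.add_mem _ hy h3

theorem mem_pow_smul_top_iff [IsAdicComplete I (AdicCompletion I M)]
    {n : ℕ} {x : AdicCompletion I M} :
    x ∈ (I ^ n • ⊤ : Submodule A (AdicCompletion I M)) ↔ x.val n = 0 :=
  ⟨val_eq_zero_of_mem I M, mem_pow_smul_top_of_exists I M (exists_sub_of_mem I M)⟩

theorem isAdicComplete_of_exists
    (h : ∀ (n : ℕ) (x : AdicCompletion I M), ∃ y : M,
        x - AdicCompletion.of I M y ∈ (I ^ n • ⊤ : Submodule A (AdicCompletion I M))) :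
    IsAdicComplete I (AdicCompletion I M) := by
  refine { (inferInstance : IsHausdorff I (AdicCompletion I M)) with prec' := ?_ }
  intro f hf
  have hc : ∀ {m n : ℕ}, m ≤ n → (f m).val m = (f n).val m := by
    intro m n hmn
    have h1 : f m - f n ∈ (I ^ m • ⊤ : Submodule A (AdicCompletion I M)) :=
      SModEq.sub_mem.1 (hf hmn)
    have h2 := val_eq_zero_of_mem I M h1
    rwa [AdicCompletion.val_sub_apply, sub_eq_zero] at h2
  refine ⟨⟨fun n => (f n).val n, ?_⟩, fun n => ?_⟩
  · intro m n hmn
    rw [transitionMap_comp_eval_apply I _ hmn (f n)]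
    exact (hc hmn).symm
  · rw [SModEq.sub_mem]
    refine mem_pow_smul_top_of_exists I M h ?_
    rw [AdicCompletion.val_sub_apply]
    exact sub_self _

theorem isAdicComplete_iff : IsAdicComplete I (AdicCompletion I M) ↔
      ∀ (n : ℕ) (x : AdicCompletion I M), ∃ y : M,
        x - AdicCompletion.of I M y ∈ (I ^ n • ⊤ : Submodule A (AdicCompletion I M)) :=
  ⟨fun _ => exists_sub_of_mem I M, isAdicComplete_of_exists I M⟩

end K91.Compl
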