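import Groth.Prelude.Def_W4c5adicflatcomplDec
import Groth.Agent.CAlg.K91.Compl
import Mathlib.LinearAlgebra.Finsupp.LSum

/-!
`I`-adically decaying functions, part 1: separatedness, comparison with the completion of finitely
supported functions.

* `isHausdorff`: decaying functions into a Hausdorff module form a Hausdorff module.
* `finsupp_mem_smul_top_iff`: `J • (Z →₀ M)` is the module of functions with values in `J • M`.
* `toPi`, `toPi_injective`, `range_toPi`: the completion of `Z →₀ M` is the module of decaying functions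
  with values in `M^` (for `M^` complete); `equiv` is the resulting isomorphism.
-/

set_option autoImplicit false
universe u v w

open W4c5adicflatcompl

namespace K91.Decay

variable {A : Type u} [CommRing A] (I : Ideal A) (Z : Type v) (M : Type w) [AddCommGroup M]
  [Module A M]

variable {I Z M} in
theorem apply_mem_of_mem {J : Ideal A} {f : decaying I Z M}
    (hf : f ∈ (J • ⊤ : Submodule A (decaying I Z M))) (z : Z) :
    (f : Z → M) z ∈ (J • ⊤ : Submodule A M) := by
  have h1 : ((LinearMap.proj z : (Z → M) →ₗ[A] M) ∘ₗ (decaying I Z M).subtype) f ∈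
      (J • ⊤ : Submodule A (decaying I Z M)).map
        ((LinearMap.proj z : (Z → M) →ₗ[A] M) ∘ₗ (decaying I Z M).subtype) := ⟨f, hf, rfl⟩
  rw [Submodule.map_smul''] at h1
  exact Submodule.smul_mono le_rfl le_top h1

theorem isHausdorff [IsHausdorff I M] : IsHausdorff I (decaying I Z M) := by
  refine ⟨fun f hf => Subtype.ext (funext fun z => ?_)⟩
  refine IsHausdorff.haus (I := I) inferInstance _ fun n => ?_
  rw [SModEq.zero]
  exact apply_mem_of_mem (SModEq.zero.1 (hf n)) z

variable {Z M} in
theorem finsupp_mem_smul_top_iff (J : Ideal A) (y : Z →₀ M) :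
    y ∈ (J • ⊤ : Submodule A (Z →₀ M)) ↔ ∀ z, y z ∈ (J • ⊤ : Submodule A M) := by
  constructor
  · intro hy z
    have h1 : Finsupp.lapply (R := A) z y ∈
        (J • ⊤ : Submodule A (Z →₀ M)).map (Finsupp.lapply (R := A) z) := ⟨y, hy, rfl⟩
    rw [Submodule.map_smul''] at h1
    exact Submodule.smul_mono le_rfl le_top h1
  · intro h
    classical
    rw [← Finsupp.sum_single y]
    refine Submodule.sum_mem _ fun z _ => ?_
    have h1 : Finsupp.lsingle (R := A) z (y z) ∈
        (J • ⊤ : Submodule A M).map (Finsupp.lsingle (R := A) z) := ⟨y z, h z, rfl⟩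
    rw [Submodule.map_smul''] at h1
    exact Submodule.smul_mono le_rfl le_top h1

/-- coordinates of the completion of `Z →₀ M`. -/
noncomputable abbrev toPi : AdicCompletion I (Z →₀ M) →ₗ[A] (Z → AdicCompletion I M) :=
  LinearMap.pi fun z : Z =>
    (AdicCompletion.map I (Finsupp.lapply (M := M) (R := A) z)).restrictScalars A

theorem toPi_mk (f : AdicCompletion.AdicCauchySequence I (Z →₀ M)) (z : Z) (n : ℕ) :
    (toPi I Z M (AdicCompletion.mk I _ f) z).val n = Submodule.Quotient.mk (f n z) := rfl

theorem toPi_injective : Function.Injective (toPi I Z M) := by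
  rw [← LinearMap.ker_eq_bot, LinearMap.ker_eq_bot']
  intro x hx
  obtain ⟨f, rfl⟩ := AdicCompletion.mk_surjective I _ x
  ext n
  refine (Submodule.Quotient.mk_eq_zero _).2 ?_
  rw [finsupp_mem_smul_top_iff]
  intro z
  have h1 := congrArg (fun t => t.val n) (congrFun hx z)
  simp only [toPi_mk] at h1
  exact (Submodule.Quotient.mk_eq_zero _).1 h1

variable [IsAdicComplete I (AdicCompletion I M)]

theorem toPi_mem (x : AdicCompletion I (Z →₀ M)) :
    toPi I Z M x ∈ decaying I Z (AdicCompletion I M) := by
  obtain ⟨f, rfl⟩ := AdicCompletion.mk_surjective I _ x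
  intro n
  refine (f n).support.finite_toSet.subset fun z hz => ?_
  by_contra hz'
  refine hz ?_
  rw [Compl.mem_pow_smul_top_iff, toPi_mk]
  have : f n z = 0 := by simpa using hz'
  rw [this]
  rfl

theorem exists_toPi_eq (g : Z → AdicCompletion I M)
    (hg : g ∈ decaying I Z (AdicCompletion I M)) : ∃ x, toPi I Z M x = g := by
  classical
  have hfin : ∀ n : ℕ, ({z | (g z).val n ≠ 0} : Set Z).Finite := by
    intro n
    refine (hg n).subset fun z hz => ?_
    intro hz'
    exact hz ((Compl.mem_pow_smul_top_iff I M).1 hz')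
  have hlift : ∀ (n : ℕ) (z : Z), ∃ y : M, Submodule.Quotient.mk y = (g z).val n ∧
      ((g z).val n = 0 → y = 0) := by
    intro n z
    by_cases h : (g z).val n = 0
    · exact ⟨0, by rw [h]; rfl, fun _ => rfl⟩
    · obtain ⟨y, hy⟩ := Submodule.Quotient.mk_surjective _ ((g z).val n)
      exact ⟨y, hy, fun h' => absurd h' h⟩
  choose y hy hy0 using hlift
  have hsupp : ∀ n : ℕ, ∀ z, y n z ≠ 0 → z ∈ (hfin n).toFinset := by
    intro n z hz
    rw [Set.Finite.mem_toFinset]
    exact fun h => hz (hy0 n z h)
  let f : ℕ → (Z →₀ M) := fun n => Finsupp.onFinset _ (y n) (hsupp n)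
  have hf : ∀ n, f n ≡ f (n + 1) [SMOD (I ^ n • ⊤ : Submodule A (Z →₀ M))] := by
    intro n
    rw [SModEq.sub_mem, finsupp_mem_smul_top_iff]
    intro z
    rw [Finsupp.sub_apply, ← Submodule.Quotient.mk_eq_zero, Submodule.Quotient.mk_sub, sub_eq_zero]
    change Submodule.Quotient.mk (y n z) = Submodule.Quotient.mk (y (n + 1) z)
    rw [hy n z, ← AdicCompletion.transitionMap_comp_eval_apply I _ n.le_succ (g z), ← hy (n + 1) z]
    rfl
  refine ⟨AdicCompletion.mk I _ (AdicCompletion.AdicCauchySequence.mk I _ f hf), ?_⟩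
  funext z
  ext n
  rw [toPi_mk]
  exact hy n z

theorem range_toPi : LinearMap.range (toPi I Z M) = decaying I Z (AdicCompletion I M) := by
  ext g
  constructor
  · rintro ⟨x, rfl⟩
    exact toPi_mem I Z M x
  · intro hg
    exact exists_toPi_eq I Z M g hg

/-- the completion of `Z →₀ M` is the module of decaying functions with values in `M^`. -/
noncomputable def equiv :
    AdicCompletion I (Z →₀ M) ≃ₗ[A] decaying I Z (AdicCompletion I M) :=
  LinearEquiv.ofBijective ((toPi I Z M).codRestrict _ (toPi_mem I Z M))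
    ⟨fun x y h => toPi_injective I Z M (congrArg Subtype.val h),
      fun g => by
        obtain ⟨x, hx⟩ := exists_toPi_eq I Z M g g.2
        exact ⟨x, Subtype.ext hx⟩⟩

theorem equiv_apply (x : AdicCompletion I (Z →₀ M)) :
    (equiv I Z M x : Z → AdicCompletion I M) = toPi I Z M x := rfl

theorem equiv_of (y : Z →₀ M) (z : Z) :
    (equiv I Z M (AdicCompletion.of I _ y) : Z → AdicCompletion I M) z =
      AdicCompletion.of I M (y z) := rfl

end K91.Decay
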