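import Groth.Agent.CAlg.K91.Decay1
import Mathlib.RingTheory.Filtration
import Mathlib.RingTheory.AdicCompletion.Noetherian
import Mathlib.RingTheory.Flat.Tensor
import Mathlib.LinearAlgebra.TensorProduct.RightExactness
import Mathlib.LinearAlgebra.TensorProduct.Pi
import Mathlib.LinearAlgebra.Finsupp.LinearCombination

/-!
`I`-adically decaying functions over a Noetherian ring, part 2.

* `mem_submodule_iff`: Artin-Rees; decaying functions into a submodule of a finite module.
* `exists_lift`: lifting decaying functions along surjections of finite modules.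
* `tmap`: the map `M ⊗ decaying I Z A → (Z → M)`; `tmap_injective`, `range_tmap` for `M` finite.
* `mem_smul_top_iff`: `J • decaying I Z A` is the module of decaying functions with values in `J`.
* `flat`, `isAdicComplete`: the module of decaying functions `Z → A` is flat and complete.
-/

set_option autoImplicit false
universe u v w w'

open W4c5adicflatcompl
open scoped TensorProduct

namespace K91.Decay

variable {A : Type u} [CommRing A] (I : Ideal A) (Z : Type v) (M : Type w) [AddCommGroup M]
  [Module A M]

variable {Z M} in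
theorem comp_mem {N : Type w'} [AddCommGroup N] [Module A N] (φ : M →ₗ[A] N) {f : Z → M}
    (hf : f ∈ decaying I Z M) : (fun z => φ (f z)) ∈ decaying I Z N := by
  intro n
  refine (hf n).subset fun z hz h => hz ?_
  have h1 : φ (f z) ∈ (I ^ n • ⊤ : Submodule A M).map φ := ⟨f z, h, rfl⟩
  rw [Submodule.map_smul''] at h1
  exact Submodule.smul_mono le_rfl le_top h1

/-- Artin-Rees for decaying functions. -/
theorem mem_submodule_iff [IsNoetherianRing A] [Module.Finite A M] (N : Submodule A M)
    (f : Z → N) : f ∈ decaying I Z N ↔ (fun z => (f z : M)) ∈ decaying I Z M := by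
  constructor
  · intro hf
    exact comp_mem I N.subtype hf
  · intro hf n
    obtain ⟨k, hk⟩ := Ideal.exists_pow_inf_eq_pow_smul I N
    refine (hf (n + k)).subset fun z hz h => hz ?_
    have h1 : (f z : M) ∈ (I ^ (n + k) • ⊤ ⊓ N : Submodule A M) := ⟨h, (f z).2⟩
    rw [hk (n + k) (by omega), Nat.add_sub_cancel] at h1
    have h2 : (f z : M) ∈ (I ^ n • N : Submodule A M) := Submodule.smul_mono le_rfl inf_le_right h1
    have h3 : (I ^ n • ⊤ : Submodule A N).map N.subtype = I ^ n • N := by
      rw [Submodule.map_smul'', Submodule.map_top, Submodule.range_subtype]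
    rw [← h3] at h2
    obtain ⟨y, hy, hy'⟩ := h2
    have : y = f z := Subtype.ext hy'
    rwa [← this]

variable {Z M} in
/-- lifting decaying functions along a surjection onto a Hausdorff module. -/
theorem exists_lift_of_isHausdorff {N : Type w'} [AddCommGroup N] [Module A N] [IsHausdorff I N]
    (φ : M →ₗ[A] N) (hφ : Function.Surjective φ) (g : Z → N) (hg : g ∈ decaying I Z N) :
    ∃ f : Z → M, f ∈ decaying I Z M ∧ ∀ z, φ (f z) = g z := by
  classical
  have hmap : ∀ n : ℕ, (I ^ n • ⊤ : Submodule A M).map φ = (I ^ n • ⊤ : Submodule A N) := by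
    intro n
    rw [Submodule.map_smul'', Submodule.map_top, LinearMap.range_eq_top.2 hφ]
  have hlift : ∀ y : N, ∃ x : M, φ x = y ∧ ∀ n : ℕ, y ∈ (I ^ n • ⊤ : Submodule A N) →
      x ∈ (I ^ n • ⊤ : Submodule A M) := by
    intro y
    by_cases hy : y = 0
    · exact ⟨0, by simp [hy], fun _ _ => Submodule.zero_mem _⟩
    · have hex : ∃ n : ℕ, y ∉ (I ^ n • ⊤ : Submodule A N) := by
        by_contra hcon
        push Not at hcon
        exact hy (IsHausdorff.haus (I := I) inferInstance y fun n => SModEq.zero.2 (hcon n))
      have h0 : Nat.find hex ≠ 0 := by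
        intro h
        have := Nat.find_spec hex
        rw [h] at this
        simp at this
      have h1 : y ∈ (I ^ (Nat.find hex - 1) • ⊤ : Submodule A N) := by
        by_contra h
        exact Nat.find_min hex (Nat.sub_lt (Nat.pos_of_ne_zero h0) one_pos) h
      rw [← hmap] at h1
      obtain ⟨x, hx, hxy⟩ := h1
      refine ⟨x, hxy, fun n hn => ?_⟩
      have h2 : n ≤ Nat.find hex - 1 := by
        by_contra hlt
        have h3 : Nat.find hex ≤ n := by omega
        exact Nat.find_spec hex (Submodule.pow_smul_top_le I N h3 hn)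
      exact Submodule.pow_smul_top_le I M h2 hx
  choose s hs hs' using hlift
  refine ⟨fun z => s (g z), fun n => ?_, fun z => hs _⟩
  refine (hg n).subset fun z hz h => hz ?_
  exact hs' _ n h

theorem isHausdorff_of_finite [IsNoetherianRing A] [IsAdicComplete I A] [Module.Finite A M] :
    IsHausdorff I M :=
  IsHausdorff.of_le_jacobson I M (IsAdicComplete.le_jacobson_bot I)

variable {Z M} in
theorem exists_lift [IsNoetherianRing A] [IsAdicComplete I A] [Module.Finite A M]
    {N : Type w'} [AddCommGroup N] [Module A N]
    (φ : M →ₗ[A] N) (hφ : Function.Surjective φ) (g : Z → N) (hg : g ∈ decaying I Z N) :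
    ∃ f : Z → M, f ∈ decaying I Z M ∧ ∀ z, φ (f z) = g z := by
  have : Module.Finite A N := Module.Finite.of_surjective φ hφ
  have := isHausdorff_of_finite I N
  exact exists_lift_of_isHausdorff I φ hφ g hg

/-- the canonical map `M ⊗ decaying I Z A → (Z → M)`. -/
noncomputable abbrev tmap : M ⊗[A] decaying I Z A →ₗ[A] (Z → M) :=
  (TensorProduct.piScalarRightHom A A M Z) ∘ₗ ((decaying I Z A).subtype.lTensor M)

theorem tmap_tmul (m : M) (f : decaying I Z A) (z : Z) :
    tmap I Z M (m ⊗ₜ f) z = (f : Z → A) z • m := by
  simp [tmap, TensorProduct.piScalarRightHom_tmul]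

theorem tmap_natural {N : Type w'} [AddCommGroup N] [Module A N] (φ : M →ₗ[A] N)
    (x : M ⊗[A] decaying I Z A) (z : Z) :
    tmap I Z N (φ.rTensor _ x) z = φ (tmap I Z M x z) := by
  induction x using TensorProduct.induction_on with
  | zero => simp
  | tmul m f => rw [LinearMap.rTensor_tmul, tmap_tmul, tmap_tmul, map_smul]
  | add x y hx hy => rw [map_add, map_add, map_add, Pi.add_apply, Pi.add_apply, map_add, hx, hy]

theorem tmap_mem (x : M ⊗[A] decaying I Z A) : tmap I Z M x ∈ decaying I Z M := by
  induction x using TensorProduct.induction_on with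
  | zero => rw [map_zero]; exact Submodule.zero_mem _
  | tmul m f =>
    have h1 : tmap I Z M (m ⊗ₜ f) = fun z => (LinearMap.toSpanSingleton A M m) ((f : Z → A) z) := by
      funext z
      rw [tmap_tmul]
      rfl
    rw [h1]
    exact comp_mem I _ f.2
  | add x y hx hy => rw [map_add]; exact Submodule.add_mem _ hx hy

theorem tmap_pi_injective (n : ℕ) : Function.Injective (tmap I Z (Fin n → A)) := by
  classical
  rw [← LinearMap.ker_eq_bot, LinearMap.ker_eq_bot']
  intro x hx
  have key : ∀ x : (Fin n → A) ⊗[A] decaying I Z A, ∃ d : Fin n → decaying I Z A,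
      x = ∑ i, (Pi.single i 1 : Fin n → A) ⊗ₜ d i := by
    intro x
    induction x using TensorProduct.induction_on with
    | zero => exact ⟨0, by simp⟩
    | tmul m f =>
      refine ⟨fun i => m i • f, ?_⟩
      have h1 : m = ∑ i, m i • (Pi.single i 1 : Fin n → A) := by
        simpa using (pi_eq_sum_univ' m)
      conv_lhs => rw [h1]
      rw [TensorProduct.sum_tmul]
      exact Finset.sum_congr rfl fun i _ => by rw [TensorProduct.smul_tmul]
    | add x y hx hy =>
      obtain ⟨d, hd⟩ := hx
      obtain ⟨e, he⟩ := hy
      refine ⟨d + e, ?_⟩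
      rw [hd, he, ← Finset.sum_add_distrib]
      exact Finset.sum_congr rfl fun i _ => by rw [Pi.add_apply, TensorProduct.tmul_add]
  obtain ⟨d, hd⟩ := key x
  have h0 : ∀ i, d i = 0 := by
    intro i
    refine Subtype.ext (funext fun z => ?_)
    have h1 := congrFun (congrFun hx z) i
    rw [hd, map_sum, Finset.sum_apply, Finset.sum_apply] at h1
    simp only [tmap_tmul, Pi.smul_apply, Pi.single_apply, smul_eq_mul, mul_ite, mul_one,
      mul_zero, Finset.sum_ite_eq, Finset.mem_univ, if_true] at h1
    exact h1
  rw [hd]
  exact Finset.sum_eq_zero fun i _ => by rw [h0 i, TensorProduct.tmul_zero]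

variable [IsNoetherianRing A] [IsAdicComplete I A]

theorem exists_tmap_eq [Module.Finite A M] (g : Z → M) (hg : g ∈ decaying I Z M) :
    ∃ x, tmap I Z M x = g := by
  classical
  obtain ⟨n, π, hπ⟩ := Module.Finite.exists_fin' A M
  obtain ⟨h, hh, hhg⟩ := exists_lift I π hπ g hg
  have hc : ∀ i : Fin n, (fun z => h z i) ∈ decaying I Z A := fun i =>
    comp_mem I (LinearMap.proj i : (Fin n → A) →ₗ[A] A) hh
  refine ⟨∑ i, π (Pi.single i 1) ⊗ₜ ⟨fun z => h z i, hc i⟩, ?_⟩
  funext z
  rw [map_sum, Finset.sum_apply, ← hhg z]
  have h1 : h z = ∑ i, h z i • (Pi.single i 1 : Fin n → A) := by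
    simpa using (pi_eq_sum_univ' (h z))
  conv_rhs => rw [h1]
  rw [map_sum]
  refine Finset.sum_congr rfl fun i _ => ?_
  rw [tmap_tmul, map_smul]

theorem range_tmap [Module.Finite A M] : LinearMap.range (tmap I Z M) = decaying I Z M := by
  ext g
  constructor
  · rintro ⟨x, rfl⟩
    exact tmap_mem I Z M x
  · intro hg
    exact exists_tmap_eq I Z M g hg

theorem tmap_injective [Module.Finite A M] : Function.Injective (tmap I Z M) := by
  rw [← LinearMap.ker_eq_bot, LinearMap.ker_eq_bot']
  intro x hx
  obtain ⟨n, π, hπ⟩ := Module.Finite.exists_fin' A M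
  obtain ⟨x', rfl⟩ := LinearMap.rTensor_surjective (decaying I Z A) hπ x
  have hval : ∀ z, tmap I Z _ x' z ∈ LinearMap.ker π := by
    intro z
    rw [LinearMap.mem_ker, ← tmap_natural, hx]
    rfl
  have hdec : (fun z => (⟨tmap I Z _ x' z, hval z⟩ : LinearMap.ker π)) ∈
      decaying I Z (LinearMap.ker π) := by
    rw [mem_submodule_iff]
    exact tmap_mem I Z _ x'
  obtain ⟨y, hy⟩ := exists_tmap_eq I Z (LinearMap.ker π) _ hdec
  have h1 : (LinearMap.ker π).subtype.rTensor (decaying I Z A) y = x' := by
    refine tmap_pi_injective I Z n ?_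
    funext z
    rw [tmap_natural, hy]
    rfl
  rw [← h1, ← LinearMap.comp_apply, ← LinearMap.rTensor_comp]
  have h2 : π ∘ₗ (LinearMap.ker π).subtype = 0 := by
    ext z
    exact z.2
  rw [h2, LinearMap.rTensor_zero, LinearMap.zero_apply]

/-- a decaying function `Z → A` with all values in `J` lies in `J • decaying I Z A`. -/
theorem mem_smul_top_iff (J : Ideal A) (f : decaying I Z A) :
    f ∈ (J • ⊤ : Submodule A (decaying I Z A)) ↔ ∀ z, (f : Z → A) z ∈ J := by
  constructor
  · intro hf z
    have := apply_mem_of_mem hf z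
    simpa using this
  · intro h
    have hdec : (fun z => (⟨(f : Z → A) z, h z⟩ : J)) ∈ decaying I Z J := by
      rw [mem_submodule_iff]
      exact f.2
    obtain ⟨y, hy⟩ := exists_tmap_eq I Z J _ hdec
    have key : ∀ (y : J ⊗[A] decaying I Z A) (f : decaying I Z A),
        (∀ z, (tmap I Z J y z : A) = (f : Z → A) z) →
        f ∈ (J • ⊤ : Submodule A (decaying I Z A)) := by
      intro y
      induction y using TensorProduct.induction_on with
      | zero =>
        intro f hf
        have : f = 0 := Subtype.ext (funext fun z => (hf z).symm.trans (by simp))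
        rw [this]
        exact Submodule.zero_mem _
      | tmul a d =>
        intro f hf
        have : f = (a : A) • d := Subtype.ext (funext fun z => by
          rw [← hf z, tmap_tmul]
          simp [mul_comm])
        rw [this]
        exact Submodule.smul_mem_smul a.2 Submodule.mem_top
      | add x y hx hy =>
        intro f hf
        let fx : decaying I Z A := ⟨_, comp_mem I (Submodule.subtype J) (tmap_mem I Z J x)⟩
        let fy : decaying I Z A := ⟨_, comp_mem I (Submodule.subtype J) (tmap_mem I Z J y)⟩
        have : f = fx + fy := Subtype.ext (funext fun z => by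
          rw [← hf z, map_add]
          rfl)
        rw [this]
        exact Submodule.add_mem _ (hx fx fun z => rfl) (hy fy fun z => rfl)
    exact key y f fun z => congrArg Subtype.val (congrFun hy z)

theorem isAdicComplete : IsAdicComplete I (decaying I Z A) := by
  refine { (isHausdorff I Z A : IsHausdorff I (decaying I Z A)) with prec' := ?_ }
  intro f hf
  have hcc : ∀ z, ∃ L : A, ∀ n : ℕ, (f n : Z → A) z ≡ L [SMOD (I ^ n • ⊤ : Submodule A A)] := by
    intro z
    refine IsPrecomplete.prec (I := I) inferInstance ?_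
    intro m n hmn
    rw [SModEq.sub_mem]
    exact apply_mem_of_mem (SModEq.sub_mem.1 (hf hmn)) z
  choose L hL using hcc
  have hLdec : L ∈ decaying I Z A := by
    intro n
    refine ((f n).2 n).subset fun z hz h => hz ?_
    have h1 := SModEq.sub_mem.1 (hL z n)
    have := Submodule.sub_mem _ h h1
    simpa using this
  refine ⟨⟨L, hLdec⟩, fun n => ?_⟩
  rw [SModEq.sub_mem, mem_smul_top_iff]
  intro z
  have := SModEq.sub_mem.1 (hL z n)
  simpa using this

theorem flat : Module.Flat A (decaying I Z A) := by
  rw [Module.Flat.iff_rTensor_injective']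
  intro J
  rw [← LinearMap.ker_eq_bot, LinearMap.ker_eq_bot']
  intro x hx
  refine tmap_injective I Z J ?_
  rw [map_zero]
  funext z
  refine Subtype.ext ?_
  have h1 := tmap_natural I Z J (Submodule.subtype J) x z
  rw [hx] at h1
  simpa using h1.symm

end K91.Decay
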