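import Groth.Agent.CAlg.K91.Decay1
import Mathlib.RingTheory.AdicCompletion.Completeness

/-!
`I`-adically decaying functions, part 3: universal property and adically projective modules.

* `hom_ext`: two linear maps from `decaying I Z M^` (`M^` complete) to a Hausdorff module that agree on
  finitely supported functions with values in `M` are equal.
* `existsUnique_hom`: linear maps from `decaying I Z A^` to a complete module are given by arbitrary
  functions on `Z`.
* `isAdicComplete_decaying` : `decaying I Z M^` is complete for `I` finitely generated.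
* `isAdicComplete_of_retract`, `isAdicProjective_iff`.
-/

set_option autoImplicit false
universe u v w w'

open W4c5adicflatcompl

namespace K91.Decay

variable {A : Type u} [CommRing A] (I : Ideal A)

section retract

variable {M : Type v} [AddCommGroup M] [Module A M] {N : Type w} [AddCommGroup N] [Module A N]

theorem map_mem_pow_smul (φ : M →ₗ[A] N) (J : Ideal A) {x : M}
    (hx : x ∈ (J • ⊤ : Submodule A M)) : φ x ∈ (J • ⊤ : Submodule A N) := by
  have h1 : φ x ∈ (J • ⊤ : Submodule A M).map φ := ⟨x, hx, rfl⟩
  rw [Submodule.map_smul''] at h1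
  exact Submodule.smul_mono le_rfl le_top h1

/-- a retract of a complete module is complete. -/
theorem isAdicComplete_of_retract [IsAdicComplete I N] (i : M →ₗ[A] N) (r : N →ₗ[A] M)
    (h : r ∘ₗ i = LinearMap.id) : IsAdicComplete I M := by
  have hri : ∀ x, r (i x) = x := fun x => LinearMap.congr_fun h x
  refine { haus' := ?_, prec' := ?_ }
  · intro x hx
    have h1 : i x = 0 := IsHausdorff.haus (I := I) inferInstance _ fun n => by
      rw [SModEq.zero]
      exact map_mem_pow_smul i _ (SModEq.zero.1 (hx n))
    rw [← hri x, h1, map_zero]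
  · intro f hf
    obtain ⟨L, hL⟩ := IsPrecomplete.prec (I := I) (inferInstance : IsPrecomplete I N)
      (f := fun n => i (f n)) (by
        intro m n hmn
        rw [SModEq.sub_mem, ← map_sub]
        exact map_mem_pow_smul i _ (SModEq.sub_mem.1 (hf hmn)))
    refine ⟨r L, fun n => ?_⟩
    have h1 := map_mem_pow_smul r _ (SModEq.sub_mem.1 (hL n))
    rw [map_sub, hri] at h1
    exact SModEq.sub_mem.2 h1

theorem isAdicComplete_congr (e : M ≃ₗ[A] N) [IsAdicComplete I N] : IsAdicComplete I M :=
  isAdicComplete_of_retract I e.toLinearMap e.symm.toLinearMap (by ext; simp)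

/-- two linear maps that agree on a submodule which is dense for the `I`-adic topology are equal. -/
theorem hom_eq_of_dense [IsHausdorff I N] {φ ψ : M →ₗ[A] N} (S : Set M)
    (hS : ∀ (x : M) (n : ℕ), ∃ y ∈ S, x - y ∈ (I ^ n • ⊤ : Submodule A M))
    (h : ∀ y ∈ S, φ y = ψ y) : φ = ψ := by
  ext x
  rw [← sub_eq_zero]
  refine IsHausdorff.haus (I := I) inferInstance _ fun n => ?_
  rw [SModEq.zero]
  obtain ⟨y, hy, hxy⟩ := hS x n
  have h1 := map_mem_pow_smul (φ - ψ) _ hxy
  rw [map_sub] at h1
  simp only [LinearMap.sub_apply, h y hy, sub_self, sub_zero] at h1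
  exact h1

end retract

section hom

variable (Z : Type v) (M : Type w) [AddCommGroup M] [Module A M]

/-- for `I` finitely generated the decaying functions with values in `M^` form a complete module -/
theorem isAdicComplete_decaying (hI : I.FG) :
    IsAdicComplete I (decaying I Z (AdicCompletion I M)) := by
  have h1 : IsAdicComplete I (AdicCompletion I M) := AdicCompletion.isAdicComplete hI
  have h2 : IsAdicComplete I (AdicCompletion I (Z →₀ M)) := AdicCompletion.isAdicComplete hI
  exact isAdicComplete_congr I (equiv I Z M).symm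

/-- the module of decaying functions is the closure of the functions `Z →₀ M`. -/
theorem exists_sub_mem (hI : I.FG) (g : decaying I Z (AdicCompletion I M)) (n : ℕ) :
    ∃ (y : Z →₀ M) (g' : decaying I Z (AdicCompletion I M)),
      (∀ z, (g' : Z → AdicCompletion I M) z = AdicCompletion.of I M (y z)) ∧
      g - g' ∈ (I ^ n • ⊤ : Submodule A (decaying I Z (AdicCompletion I M))) := by
  have h1 : IsAdicComplete I (AdicCompletion I M) := AdicCompletion.isAdicComplete hI
  have h2 : IsAdicComplete I (AdicCompletion I (Z →₀ M)) := AdicCompletion.isAdicComplete hI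
  obtain ⟨y, hy⟩ := Compl.exists_sub_of_mem I (Z →₀ M) n ((equiv I Z M).symm g)
  refine ⟨y, equiv I Z M (AdicCompletion.of I _ y), fun z => equiv_of I Z M y z, ?_⟩
  have h3 := map_mem_pow_smul (equiv I Z M).toLinearMap _ hy
  rw [map_sub] at h3
  simpa using h3

variable {M}

theorem single_of_add [DecidableEq Z] (z : Z) (a b : AdicCompletion I A) :
    single I z (a + b) = single I z a + single I z b := by
  refine Subtype.ext ?_
  simp [Pi.single_add]

theorem coe_eq_sum_single [DecidableEq Z] (y : Z →₀ A) (g' : decaying I Z (AdicCompletion I A))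
    (h : ∀ z, (g' : Z → AdicCompletion I A) z = AdicCompletion.of I A (y z)) :
    g' = y.sum fun z a => a • single I z (1 : AdicCompletion I A) := by
  refine Subtype.ext (funext fun z => ?_)
  rw [h z, Finsupp.sum, Submodule.coe_sum, Finset.sum_apply]
  simp only [Submodule.coe_smul, coe_single, Pi.smul_apply]
  rw [Finset.sum_eq_single z]
  · rw [Pi.single_eq_same, ← algebraMap_smul (AdicCompletion I A) (y z) (1 : AdicCompletion I A)]
    simp [AdicCompletion.algebraMap_apply]
  · intro b _ hb
    rw [Pi.single_eq_of_ne hb.symm, smul_zero]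
  · intro hz
    rw [Finsupp.notMem_support_iff.1 hz, zero_smul]

theorem hom_ext [DecidableEq Z] (hI : I.FG) [IsHausdorff I M]
    {φ ψ : decaying I Z (AdicCompletion I A) →ₗ[A] M}
    (h : ∀ z, φ (single I z (1 : AdicCompletion I A)) = ψ (single I z (1 : AdicCompletion I A))) :
    φ = ψ := by
  refine hom_eq_of_dense I {g | ∃ y : Z →₀ A,
    ∀ z, (g : Z → AdicCompletion I A) z = AdicCompletion.of I A (y z)} ?_ ?_
  · intro x n
    obtain ⟨y, g', hy, hg⟩ := exists_sub_mem I Z A hI x n
    exact ⟨g', ⟨y, hy⟩, hg⟩
  · rintro g ⟨y, hy⟩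
    rw [coe_eq_sum_single I Z y g hy, map_finsuppSum, map_finsuppSum]
    refine Finset.sum_congr rfl fun z _ => ?_
    simp only [map_smul, h z]

/-- the linear map from decaying functions to a complete module with given values on `single z 1`. -/
theorem exists_hom [DecidableEq Z] (hI : I.FG) [IsAdicComplete I M] (f : Z → M) :
    ∃ φ : decaying I Z (AdicCompletion I A) →ₗ[A] M,
      ∀ z, φ (single I z (1 : AdicCompletion I A)) = f z := by
  have h1 : IsAdicComplete I (AdicCompletion I A) := AdicCompletion.isAdicComplete hI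
  let F : (Z →₀ A) →ₗ[A] M := Finsupp.linearCombination A f
  let Φ : AdicCompletion I (Z →₀ A) →ₗ[A] M :=
    (AdicCompletion.ofLinearEquiv I M).symm.toLinearMap ∘ₗ (AdicCompletion.map I F).restrictScalars A
  have hΦ : ∀ y, Φ (AdicCompletion.of I _ y) = F y := by
    intro y
    simp only [Φ, LinearMap.comp_apply, LinearMap.coe_restrictScalars, AdicCompletion.map_of]
    exact AdicCompletion.ofLinearEquiv_symm_of I (F y)
  refine ⟨Φ ∘ₗ (equiv I Z A).symm.toLinearMap, fun z => ?_⟩
  have h2 : (equiv I Z A).symm (single I z (1 : AdicCompletion I A)) =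
      AdicCompletion.of I _ (Finsupp.single z 1) := by
    rw [LinearEquiv.symm_apply_eq]
    refine Subtype.ext (funext fun z' => ?_)
    rw [equiv_of, coe_single]
    by_cases hz : z' = z
    · subst hz
      rw [Pi.single_eq_same, Finsupp.single_eq_same]
      rfl
    · rw [Pi.single_eq_of_ne hz, Finsupp.single_eq_of_ne hz, map_zero]
  rw [LinearMap.comp_apply, LinearEquiv.coe_coe, h2, hΦ]
  simp [F]

theorem existsUnique_hom [DecidableEq Z] (hI : I.FG) [IsAdicComplete I M] (f : Z → M) :
    ∃! φ : decaying I Z (AdicCompletion I A) →ₗ[A] M,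
      ∀ z, φ (single I z (1 : AdicCompletion I A)) = f z := by
  obtain ⟨φ, hφ⟩ := exists_hom I Z hI f
  refine ⟨φ, hφ, fun ψ hψ => ?_⟩
  exact hom_ext I Z hI fun z => by rw [hφ z]; exact hψ z

end hom

section proj

theorem isAdicProjective_iff {A : Type u} [CommRing A] (I : Ideal A) (hI : I.FG)
    (P : Type u) [AddCommGroup P] [Module A P] :
    IsAdicProjective I P ↔
      ∃ (Z : Type u) (i : P →ₗ[A] decaying I Z (AdicCompletion I A))
        (r : decaying I Z (AdicCompletion I A) →ₗ[A] P), r ∘ₗ i = LinearMap.id := by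
  classical
  constructor
  · rintro ⟨hP, hlift⟩
    obtain ⟨r, hr⟩ := exists_hom I P hI (id : P → P)
    obtain ⟨i, hi⟩ := hlift _ _ (isAdicComplete_decaying I P A hI) hP r
      (fun x => ⟨_, hr x⟩) LinearMap.id
    exact ⟨P, i, r, hi⟩
  · rintro ⟨Z, i, r, h⟩
    have hD := isAdicComplete_decaying I Z A hI
    refine ⟨isAdicComplete_of_retract I i r h, ?_⟩
    intro M N _ _ _ _ hM hN φ hφ ψ
    choose s hs using hφ
    obtain ⟨χ, hχ⟩ := exists_hom I Z hI
      (fun z => s (ψ (r (single I z (1 : AdicCompletion I A)))))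
    have h1 : φ ∘ₗ χ = ψ ∘ₗ r := by
      refine hom_ext I Z hI fun z => ?_
      rw [LinearMap.comp_apply, hχ, hs]
      rfl
    refine ⟨χ ∘ₗ i, ?_⟩
    rw [← LinearMap.comp_assoc, h1, LinearMap.comp_assoc, h, LinearMap.comp_id]

end proj

end K91.Decay
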