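import Groth.Agent.CAlg.K91.Decay3

/-!
`I`-adic sums of decaying functions.

* `HasSum' I f m`: `m` is the `I`-adic sum of the family `f`.
* `exists_hasSum'`: a decaying family in a complete module has a sum; `hasSum'_iff`: a family has
  a sum iff it is decaying.
* `exists_sum_eq`: elements of a complete module are convergent sums of a family that spans modulo `I`.
* `exists_sumHom`: summation is linear in the coefficients.
-/

set_option autoImplicit false
universe u v w

open W4c5adicflatcompl

namespace K91.Decay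

variable {A : Type u} [CommRing A] (I : Ideal A) {Z : Type v} {M : Type w} [AddCommGroup M]
  [Module A M]

/-- `m` is the `I`-adic sum of the family `f`. -/
def HasSum' (f : Z → M) (m : M) : Prop :=
  ∀ n : ℕ, ∃ S : Finset Z, (∀ z, z ∉ S → f z ∈ (I ^ n • ⊤ : Submodule A M)) ∧
    m - (∑ z ∈ S, f z) ∈ (I ^ n • ⊤ : Submodule A M)

variable {I}

theorem HasSum'.mem_decaying {f : Z → M} {m : M} (h : HasSum' I f m) : f ∈ decaying I Z M := by
  intro n
  obtain ⟨S, hS, -⟩ := h n
  refine S.finite_toSet.subset fun z hz => ?_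
  by_contra hz'
  exact hz (hS z (by simpa using hz'))

theorem HasSum'.sub_mem {f : Z → M} {m : M} (h : HasSum' I f m) {n : ℕ} {T : Finset Z}
    (hT : ∀ z, z ∉ T → f z ∈ (I ^ n • ⊤ : Submodule A M)) :
    m - (∑ z ∈ T, f z) ∈ (I ^ n • ⊤ : Submodule A M) := by
  classical
  obtain ⟨S, hS, hm⟩ := h n
  have h1 : (∑ z ∈ S ∪ T, f z) - ∑ z ∈ S, f z ∈ (I ^ n • ⊤ : Submodule A M) := by
    rw [← Finset.sum_sdiff (Finset.subset_union_left (s₁ := S) (s₂ := T)), add_sub_cancel_right]
    refine Submodule.sum_mem _ fun z hz => hS z ?_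
    exact (Finset.mem_sdiff.1 hz).2
  have h2 : (∑ z ∈ S ∪ T, f z) - ∑ z ∈ T, f z ∈ (I ^ n • ⊤ : Submodule A M) := by
    rw [← Finset.sum_sdiff (Finset.subset_union_right (s₁ := S) (s₂ := T)), add_sub_cancel_right]
    refine Submodule.sum_mem _ fun z hz => hT z ?_
    exact (Finset.mem_sdiff.1 hz).2
  have h3 := Submodule.add_mem _ (Submodule.sub_mem _ hm h1) h2
  convert h3 using 1
  abel

theorem HasSum'.unique [IsHausdorff I M] {f : Z → M} {m m' : M} (h : HasSum' I f m)
    (h' : HasSum' I f m') : m = m' := by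
  rw [← sub_eq_zero]
  refine IsHausdorff.haus (I := I) inferInstance _ fun n => ?_
  rw [SModEq.zero]
  obtain ⟨S, hS, hm⟩ := h n
  have h1 := Submodule.sub_mem _ hm (h'.sub_mem hS)
  convert h1 using 1
  abel

theorem HasSum'.add {f g : Z → M} {m m' : M} (h : HasSum' I f m)
    (h' : HasSum' I g m') : HasSum' I (fun z => f z + g z) (m + m') := by
  classical
  intro n
  obtain ⟨S, hS, hm⟩ := h n
  obtain ⟨T, hT, hm'⟩ := h' n
  have hS' : ∀ z, z ∉ S ∪ T → f z ∈ (I ^ n • ⊤ : Submodule A M) :=
    fun z hz => hS z (fun h => hz (Finset.mem_union_left _ h))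
  have hT' : ∀ z, z ∉ S ∪ T → g z ∈ (I ^ n • ⊤ : Submodule A M) :=
    fun z hz => hT z (fun h => hz (Finset.mem_union_right _ h))
  refine ⟨S ∪ T, fun z hz => Submodule.add_mem _ (hS' z hz) (hT' z hz), ?_⟩
  rw [Finset.sum_add_distrib]
  convert Submodule.add_mem _ (h.sub_mem hS') (h'.sub_mem hT') using 1
  abel

theorem HasSum'.smul (a : A) {f : Z → M} {m : M} (h : HasSum' I f m) :
    HasSum' I (fun z => a • f z) (a • m) := by
  intro n
  obtain ⟨S, hS, hm⟩ := h n
  refine ⟨S, fun z hz => Submodule.smul_mem _ a (hS z hz), ?_⟩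
  rw [← Finset.smul_sum, ← smul_sub]
  exact Submodule.smul_mem _ a hm

theorem exists_hasSum' [IsAdicComplete I M] {f : Z → M} (hf : f ∈ decaying I Z M) :
    ∃ m, HasSum' I f m := by
  classical
  let S : ℕ → Finset Z := fun n => (hf n).toFinset
  have hS : ∀ n z, z ∉ S n → f z ∈ (I ^ n • ⊤ : Submodule A M) := by
    intro n z hz
    by_contra h
    exact hz ((Set.Finite.mem_toFinset _).2 h)
  have hmono : ∀ {m n : ℕ}, m ≤ n → S m ⊆ S n := by
    intro m n hmn z hz
    rw [Set.Finite.mem_toFinset] at hz ⊢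
    exact fun h => hz (Submodule.pow_smul_top_le I M hmn h)
  obtain ⟨L, hL⟩ := IsPrecomplete.prec (I := I) (inferInstance : IsPrecomplete I M)
    (f := fun n => ∑ z ∈ S n, f z) (by
      intro m n hmn
      rw [SModEq.comm, SModEq.sub_mem, ← Finset.sum_sdiff (hmono hmn), add_sub_cancel_right]
      exact Submodule.sum_mem _ fun z hz => hS m z (Finset.mem_sdiff.1 hz).2)
  refine ⟨L, fun n => ⟨S n, hS n, ?_⟩⟩
  exact SModEq.sub_mem.1 (hL n).symm

theorem mem_decaying_iff_exists_hasSum' [IsAdicComplete I M] (f : Z → M) :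
    f ∈ decaying I Z M ↔ ∃ m, HasSum' I f m :=
  ⟨exists_hasSum', fun ⟨_, h⟩ => h.mem_decaying⟩

theorem smul_mem_decaying (f : Z → M) {g : Z → A} (hg : g ∈ decaying I Z A) :
    (fun z => g z • f z) ∈ decaying I Z M := by
  intro n
  refine (hg n).subset fun z hz h => hz ?_
  exact Submodule.smul_mem_smul (by simpa using h) Submodule.mem_top

/-- the linear map given by `I`-adic summation against a function `f`. -/
theorem exists_sumHom [IsAdicComplete I M] (f : Z → M) :
    ∃ φ : decaying I Z A →ₗ[A] M, ∀ g : decaying I Z A,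
      HasSum' I (fun z => (g : Z → A) z • f z) (φ g) := by
  have hex : ∀ g : decaying I Z A, ∃ m, HasSum' I (fun z => (g : Z → A) z • f z) m :=
    fun g => exists_hasSum' (smul_mem_decaying f g.2)
  choose φ hφ using hex
  refine ⟨{ toFun := φ, map_add' := ?_, map_smul' := ?_ }, hφ⟩
  · intro g g'
    refine (hφ (g + g')).unique ?_
    have h1 := (hφ g).add (hφ g')
    convert h1 using 2
    rw [← add_smul]
    rfl
  · intro a g
    refine (hφ (a • g)).unique ?_
    have h1 := (hφ g).smul a
    have h2 : (fun z => ((a • g : decaying I Z A) : Z → A) z • f z) =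
        fun z => a • (g : Z → A) z • f z := by
      funext z
      rw [smul_smul]
      rfl
    rw [h2]
    exact h1

/-- if a family spans a complete module modulo `I`, every element is a convergent sum. -/
theorem exists_sum_eq [IsAdicComplete I A] [IsHausdorff I M] (m : Z → M)
    (h : Submodule.span A (Set.range m) ⊔ I • ⊤ = ⊤) (x : M) :
    ∃ g : Z → A, g ∈ decaying I Z A ∧ HasSum' I (fun z => g z • m z) x := by
  classical
  let F : (Z →₀ A) →ₗ[A] M := Finsupp.linearCombination A m
  have hF : ∀ y : M, ∃ c : Z →₀ A, y - F c ∈ (I • ⊤ : Submodule A M) := by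
    intro y
    have hy : y ∈ Submodule.span A (Set.range m) ⊔ I • ⊤ := by rw [h]; exact Submodule.mem_top
    obtain ⟨a, ha, b, hb, rfl⟩ := Submodule.mem_sup.1 hy
    obtain ⟨c, hc⟩ := (Finsupp.mem_span_range_iff_exists_finsupp).1 ha
    refine ⟨c, ?_⟩
    have : F c = a := hc
    rw [this]
    simpa using hb
  -- step: elements of `I ^ n M` are combinations with coefficients in `I ^ n` modulo `I ^ (n+1) M`
  have hstep : ∀ (n : ℕ) (y : M), y ∈ (I ^ n • ⊤ : Submodule A M) → ∃ c : Z →₀ A,
      (∀ z, c z ∈ I ^ n) ∧ y - F c ∈ (I ^ (n + 1) • ⊤ : Submodule A M) := by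
    intro n y hy
    induction hy using Submodule.smul_induction_on' with
    | smul a ha y hy =>
      obtain ⟨c, hc⟩ := hF y
      refine ⟨a • c, fun z => ?_, ?_⟩
      · rw [Finsupp.smul_apply, smul_eq_mul]
        exact Ideal.mul_mem_right _ _ ha
      · rw [map_smul, ← smul_sub, pow_succ, Submodule.mul_smul]
        exact Submodule.smul_mem_smul ha hc
    | add x hx y hy ihx ihy =>
      obtain ⟨c, hc, hc'⟩ := ihx
      obtain ⟨d, hd, hd'⟩ := ihy
      refine ⟨c + d, fun z => Ideal.add_mem _ (hc z) (hd z), ?_⟩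
      rw [map_add]
      convert Submodule.add_mem _ hc' hd' using 1
      abel
  choose! c hc hc' using hstep
  -- the remainders
  let r : ℕ → M := fun n => Nat.rec x (fun n y => y - F (c n y)) n
  have hr0 : r 0 = x := rfl
  have hrs : ∀ n, r (n + 1) = r n - F (c n (r n)) := fun n => rfl
  have hr : ∀ n, r n ∈ (I ^ n • ⊤ : Submodule A M) := by
    intro n
    induction n with
    | zero => rw [pow_zero, Ideal.one_eq_top, Submodule.top_smul]; exact Submodule.mem_top
    | succ n ih => rw [hrs]; exact hc' n _ ih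
  let e : ℕ → (Z →₀ A) := fun n => c n (r n)
  have he : ∀ n z, e n z ∈ I ^ n := fun n z => hc n _ (hr n) z
  let s : ℕ → (Z →₀ A) := fun n => ∑ k ∈ Finset.range n, e k
  have hs : ∀ n, x - F (s n) = r n := by
    intro n
    induction n with
    | zero => simp [s, hr0]
    | succ n ih =>
      have h1 : s (n + 1) = s n + e n := Finset.sum_range_succ _ _
      rw [h1, map_add, ← sub_sub, ih, hrs]
  have hsc : ∀ {m n : ℕ}, m ≤ n → ∀ z, s n z - s m z ∈ I ^ m := by
    intro m n hmn z
    obtain ⟨k, rfl⟩ := Nat.exists_eq_add_of_le hmn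
    clear hmn
    induction k with
    | zero => simp
    | succ k ih =>
      have h1 : s (m + (k + 1)) z - s m z = (s (m + k) z - s m z) + e (m + k) z := by
        simp only [s, ← add_assoc, Finset.sum_range_succ, Finsupp.add_apply]
        abel
      rw [h1]
      exact Ideal.add_mem _ ih (Ideal.pow_le_pow_right (by omega) (he _ _))
  have hlim : ∀ z, ∃ L : A, ∀ n : ℕ, L - s n z ∈ I ^ n := by
    intro z
    obtain ⟨L, hL⟩ := IsPrecomplete.prec (I := I) (inferInstance : IsPrecomplete I A)
      (f := fun n => s n z) (by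
        intro m n hmn
        rw [SModEq.comm, SModEq.sub_mem]
        simpa using hsc hmn z)
    refine ⟨L, fun n => ?_⟩
    have := SModEq.sub_mem.1 (hL n).symm
    simpa using this
  choose g hg using hlim
  have hgS : ∀ (n : ℕ) (z : Z), z ∉ (s n).support → g z ∈ I ^ n := by
    intro n z hz
    have := hg z n
    rwa [Finsupp.notMem_support_iff.1 hz, sub_zero] at this
  refine ⟨g, fun n => ?_, fun n => ⟨(s n).support, fun z hz => ?_, ?_⟩⟩
  · refine (s n).support.finite_toSet.subset fun z hz => ?_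
    by_contra hz'
    exact hz (by simpa using hgS n z (by simpa using hz'))
  · exact Submodule.smul_mem_smul (hgS n z hz) Submodule.mem_top
  · have h1 : x - ∑ z ∈ (s n).support, g z • m z =
        r n - ∑ z ∈ (s n).support, (g z - s n z) • m z := by
      rw [← hs n]
      have h2 : F (s n) = ∑ z ∈ (s n).support, s n z • m z := by
        simp only [F, Finsupp.linearCombination_apply, Finsupp.sum]
      rw [h2]
      simp only [sub_smul, Finset.sum_sub_distrib]
      abel
    rw [h1]
    refine Submodule.sub_mem _ (hr n) (Submodule.sum_mem _ fun z _ => ?_)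
    exact Submodule.smul_mem_smul (hg z n) Submodule.mem_top

theorem span_sup_eq_top_iff [IsAdicComplete I A] [IsHausdorff I M] (m : Z → M) :
    Submodule.span A (Set.range m) ⊔ I • ⊤ = ⊤ ↔
      ∀ x : M, ∃ g : Z → A, g ∈ decaying I Z A ∧ HasSum' I (fun z => g z • m z) x := by
  refine ⟨fun h x => exists_sum_eq m h x, fun h => ?_⟩
  rw [eq_top_iff]
  intro x _
  obtain ⟨g, -, hg⟩ := h x
  obtain ⟨S, -, hS⟩ := hg 1
  rw [pow_one] at hS
  rw [← sub_add_cancel x (∑ z ∈ S, g z • m z)]
  refine Submodule.add_mem _ (Submodule.mem_sup_right hS) (Submodule.mem_sup_left ?_)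
  exact Submodule.sum_mem _ fun z _ => Submodule.smul_mem _ _ (Submodule.subset_span ⟨z, rfl⟩)

end K91.Decay
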