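import Mathlib.RingTheory.Artinian.Ring
import Mathlib.FieldTheory.IsAlgClosed.Basic
import Mathlib.RingTheory.Etale.Field
import Mathlib.RingTheory.Etale.Pi
import Mathlib.RingTheory.Ideal.Quotient.Operations
import Mathlib.RingTheory.HopkinsLevitzki
import Mathlib.FieldTheory.IsAlgClosed.AlgebraicClosure

/-!
Finite algebras over an algebraically closed field `k`: the evaluation map `A → (A →ₐ[k] k) → k` is
surjective with kernel the nilradical; finite reduced algebras are formally etale; the projection
`A → A/nilradical` has a unique algebra section.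
-/

set_option autoImplicit false
universe u v w

namespace K91.FinAlg

variable (k : Type u) [Field k] (A : Type v) [CommRing A] [Algebra k A]

/-- every maximal ideal of a finite algebra over an algebraically closed field is the kernel of a
`k`-algebra homomorphism to `k`. -/
theorem exists_algHom_ker_eq [IsAlgClosed k] [Module.Finite k A] (m : Ideal A) [m.IsMaximal] :
    ∃ f : A →ₐ[k] k, RingHom.ker f = m := by
  have hb : Function.Bijective (algebraMap k (A ⧸ m)) :=
    IsAlgClosed.algebraMap_bijective_of_isIntegral
  let e : k ≃ₐ[k] (A ⧸ m) := AlgEquiv.ofBijective (Algebra.ofId k (A ⧸ m)) hb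
  refine ⟨(e.symm : (A ⧸ m) →ₐ[k] k).comp (Ideal.Quotient.mkₐ k m), ?_⟩
  ext a
  rw [RingHom.mem_ker]
  change e.symm (Ideal.Quotient.mk m a) = 0 ↔ a ∈ m
  rw [map_eq_zero_iff _ e.symm.injective, Ideal.Quotient.eq_zero_iff_mem]

theorem ker_isMaximal (f : A →ₐ[k] k) : (RingHom.ker f).IsMaximal := by
  have hs : Function.Surjective f := fun c => ⟨algebraMap k A c, by simp⟩
  exact RingHom.ker_isMaximal_of_surjective f.toRingHom hs

theorem algHom_ext_of_ker {f g : A →ₐ[k] k} (h : RingHom.ker f ≤ RingHom.ker g) : f = g := by
  ext a
  have h1 : a - algebraMap k A (f a) ∈ RingHom.ker f := by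
    rw [RingHom.mem_ker]; simp
  have h2 := h h1
  rw [RingHom.mem_ker] at h2
  simp only [map_sub, AlgHom.commutes, Algebra.algebraMap_self, RingHom.id_apply] at h2
  exact (sub_eq_zero.1 h2).symm

theorem finite_algHom [Module.Finite k A] : Finite (A →ₐ[k] k) := by
  have : IsArtinianRing A := IsArtinianRing.of_finite k A
  refine Finite.of_injective (β := MaximalSpectrum A)
    (fun f => ⟨RingHom.ker f, ker_isMaximal k A f⟩) ?_
  intro f g h
  have h1 : RingHom.ker f = RingHom.ker g := congrArg MaximalSpectrum.asIdeal h
  exact algHom_ext_of_ker k A h1.le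

theorem eval_surjective [Module.Finite k A] :
    Function.Surjective (AlgHom.pi (R := k) (fun f : A →ₐ[k] k => f)) := by
  intro c
  have := finite_algHom k A
  have hcop : Pairwise (Function.onFun IsCoprime fun f : A →ₐ[k] k => RingHom.ker f) := by
    intro f g hfg
    have := ker_isMaximal k A f
    have := ker_isMaximal k A g
    refine Ideal.isCoprime_of_isMaximal ?_
    intro h
    exact hfg (algHom_ext_of_ker k A h.le)
  obtain ⟨a, ha⟩ := Ideal.exists_forall_sub_mem_ideal hcop (fun f => algebraMap k A (c f))
  refine ⟨a, ?_⟩
  funext f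
  have := ha f
  rw [RingHom.mem_ker] at this
  simp only [map_sub, AlgHom.commutes, Algebra.algebraMap_self, RingHom.id_apply] at this
  exact sub_eq_zero.1 this

theorem ker_eval [IsAlgClosed k] [Module.Finite k A] :
    RingHom.ker (AlgHom.pi (R := k) (fun f : A →ₐ[k] k => f)) = nilradical A := by
  have : IsArtinianRing A := IsArtinianRing.of_finite k A
  ext a
  rw [RingHom.mem_ker, nilradical_eq_sInf, Ideal.mem_sInf]
  constructor
  · intro h p hp
    have hp' : p.IsPrime := hp
    have : p.IsMaximal := IsArtinianRing.isMaximal_of_isPrime p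
    obtain ⟨f, hf⟩ := exists_algHom_ker_eq k A p
    rw [← hf, RingHom.mem_ker]
    exact congrFun h f
  · intro h
    funext f
    have hm := ker_isMaximal k A f
    have := h (show RingHom.ker f ∈ {J : Ideal A | J.IsPrime} from hm.isPrime)
    exact this

theorem bijective_eval [IsAlgClosed k] [Module.Finite k A] [IsReduced A] :
    Function.Bijective (AlgHom.pi (R := k) (fun f : A →ₐ[k] k => f)) := by
  refine ⟨?_, eval_surjective k A⟩
  rw [← AlgHom.coe_toRingHom, RingHom.injective_iff_ker_eq_bot]
  exact (ker_eval k A).trans (nilradical_eq_zero A)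

/-- a finite reduced algebra over an algebraically closed field is formally etale. -/
theorem formallyEtale [IsAlgClosed k] [Module.Finite k A] [IsReduced A] :
    Algebra.FormallyEtale k A := by
  have := finite_algHom k A
  exact Algebra.FormallyEtale.of_equiv
    (AlgEquiv.ofBijective _ (bijective_eval k A)).symm

theorem isReduced_quotient : IsReduced (A ⧸ nilradical A) :=
  (Ideal.isRadical_iff_quotient_reduced _).1 (Ideal.radical_isRadical ⊥)

theorem isNilpotent_nilradical [Module.Finite k A] : IsNilpotent (nilradical A) := by
  have : IsArtinianRing A := IsArtinianRing.of_finite k A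
  exact IsArtinianRing.isNilpotent_nilradical

/-- two algebra maps from a finite reduced algebra that agree modulo the nilradical are equal. -/
theorem eq_of_comp_eq [IsAlgClosed k] [Module.Finite k A] {C : Type w} [CommRing C] [Algebra k C]
    [Module.Finite k C] [IsReduced C] {f g : C →ₐ[k] A}
    (h : (Ideal.Quotient.mkₐ k (nilradical A)).comp f = (Ideal.Quotient.mkₐ k (nilradical A)).comp g) :
    f = g := by
  have := formallyEtale k C
  exact Algebra.FormallyUnramified.ext (nilradical A) (isNilpotent_nilradical k A)
    fun x => DFunLike.congr_fun h x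

theorem exists_section [IsAlgClosed k] [Module.Finite k A] :
    ∃ s : (A ⧸ nilradical A) →ₐ[k] A,
      (Ideal.Quotient.mkₐ k (nilradical A)).comp s = AlgHom.id k (A ⧸ nilradical A) := by
  have := isReduced_quotient A
  have := formallyEtale k (A ⧸ nilradical A)
  exact Algebra.FormallySmooth.exists_lift (nilradical A) (isNilpotent_nilradical k A)
    (AlgHom.id k (A ⧸ nilradical A))

theorem existsUnique_section [IsAlgClosed k] [Module.Finite k A] :
    ∃! s : (A ⧸ nilradical A) →ₐ[k] A,
      (Ideal.Quotient.mkₐ k (nilradical A)).comp s = AlgHom.id k (A ⧸ nilradical A) := by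
  obtain ⟨s, hs⟩ := exists_section k A
  have := isReduced_quotient A
  refine ⟨s, hs, fun t ht => ?_⟩
  exact eq_of_comp_eq k A (ht.trans hs.symm)

end K91.FinAlg
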