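import Mathlib.RingTheory.Norm.Basic
import Mathlib.LinearAlgebra.Matrix.Charpoly.Eigs
import Mathlib.LinearAlgebra.Matrix.Nonsingular
import Mathlib.FieldTheory.IsAlgClosed.Spectrum
import Mathlib.FieldTheory.IsAlgClosed.AlgebraicClosure
import Mathlib.RingTheory.TensorProduct.IsBaseChangeFree
import Mathlib.RingTheory.TensorProduct.MvPolynomial
import Mathlib.RingTheory.Polynomial.IsIntegral

/-!
Norms of finite free algebras.

* `norm_map`: compatibility of norms with a map of free extensions that matches two bases.
* `isRegular_iff_norm`: an element of a finite free algebra is regular iff its norm is (McCoy).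
* `isIntegral_norm`: over a domain `S`, the norm of an element of a finite free `S`-algebra that is
  integral over a ring `A` mapping to `S` is integral over `A`.
* `basis`: the basis of a base change `C` of a free algebra `L` over `K`.
-/

set_option autoImplicit false
universe u v w

namespace K91.NormBC

open Module

section map

variable {S S' C C' ι : Type*} [CommRing S] [CommRing S'] [CommRing C] [CommRing C'] [Algebra S C]
  [Algebra S' C'] [Fintype ι] [DecidableEq ι]

theorem leftMulMatrix_map (c : Basis ι S C) (c' : Basis ι S' C') (ψ : S →+* S') (φ : C →+* C')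
    (hφ : ∀ s, φ (algebraMap S C s) = algebraMap S' C' (ψ s)) (hc : ∀ i, φ (c i) = c' i) (x : C) :
    Algebra.leftMulMatrix c' (φ x) = (Algebra.leftMulMatrix c x).map ψ := by
  ext i j
  rw [Matrix.map_apply, Algebra.leftMulMatrix_eq_repr_mul, Algebra.leftMulMatrix_eq_repr_mul,
    ← hc j, ← map_mul]
  have h1 : φ (x * c j) = ∑ i, ψ (c.repr (x * c j) i) • c' i := by
    conv_lhs => rw [← c.sum_repr (x * c j)]
    rw [map_sum]
    refine Finset.sum_congr rfl fun i _ => ?_
    rw [Algebra.smul_def, map_mul, hφ, hc, Algebra.smul_def]
  rw [h1, c'.repr_sum_self]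

theorem norm_map (c : Basis ι S C) (c' : Basis ι S' C') (ψ : S →+* S') (φ : C →+* C')
    (hφ : ∀ s, φ (algebraMap S C s) = algebraMap S' C' (ψ s)) (hc : ∀ i, φ (c i) = c' i) (x : C) :
    Algebra.norm S' (φ x) = ψ (Algebra.norm S x) := by
  rw [Algebra.norm_eq_matrix_det c', Algebra.norm_eq_matrix_det c, RingHom.map_det,
    leftMulMatrix_map c c' ψ φ hφ hc]
  rfl

theorem isRegular_iff_norm (c : Basis ι S C) (x : C) :
    IsRegular x ↔ IsRegular (Algebra.norm S x) := by
  have h1 : IsRegular (Algebra.norm S x) ↔
      Function.Injective (Algebra.leftMulMatrix c x).mulVec := by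
    rw [isRegular_iff_mem_nonZeroDivisors, Algebra.norm_eq_matrix_det c,
      ← Matrix.nonsingular_iff_det_mem_nonZeroDivisors, Matrix.mulVec_injective_iff,
      Matrix.linearIndependent_col_iff]
  rw [h1, ← isLeftRegular_iff_isRegular]
  have h2 : ∀ y : C, (Algebra.leftMulMatrix c x).mulVec (c.repr y) = c.repr (x * y) :=
    fun y => Algebra.leftMulMatrix_mulVec_repr c x y
  constructor
  · intro h v w hvw
    have h3 : x * c.equivFun.symm v = x * c.equivFun.symm w := by
      refine c.repr.injective (DFunLike.coe_injective ?_)
      rw [← h2, ← h2]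
      have hv : (c.repr (c.equivFun.symm v) : ι → S) = v := c.equivFun.apply_symm_apply v
      have hw : (c.repr (c.equivFun.symm w) : ι → S) = w := c.equivFun.apply_symm_apply w
      rw [hv, hw]
      exact hvw
    exact c.equivFun.symm.injective (h h3)
  · intro h y z hyz
    have h3 : (Algebra.leftMulMatrix c x).mulVec (c.repr y) =
        (Algebra.leftMulMatrix c x).mulVec (c.repr z) := by
      rw [h2, h2]
      exact congrArg (fun t => (c.repr t : ι → S)) hyz
    exact c.repr.injective (DFunLike.coe_injective (h h3))

end map

section integral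

open Polynomial

/-- the determinant of a matrix over an algebraically closed field killed by a monic polynomial with
coefficients in `A` is integral over `A`. -/
theorem isIntegralElem_det {A : Type*} [CommRing A] {F : Type*} [Field F] [IsAlgClosed F]
    (f : A →+* F) {ι : Type*} [Fintype ι] [DecidableEq ι] (M : Matrix ι ι F)
    (p : A[X]) (hp : p.Monic) (hM : aeval M (p.map f) = 0) :
    f.IsIntegralElem M.det := by
  rcases isEmpty_or_nonempty ι with h | h
  · rw [Matrix.det_isEmpty]
    exact RingHom.isIntegralElem_one f
  rw [Matrix.det_eq_prod_roots_charpoly]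
  let _ : Algebra A F := f.toAlgebra
  refine IsIntegral.multiset_prod fun μ hμ => ⟨p, hp, ?_⟩
  have h1 : M.charpoly.IsRoot μ := (mem_roots'.1 hμ).2
  rw [← Matrix.mem_spectrum_iff_isRoot_charpoly] at h1
  have h2 := spectrum.subset_polynomial_aeval M (p.map f) ⟨μ, h1, rfl⟩
  rw [hM, spectrum.zero_eq, Set.mem_singleton_iff] at h2
  have h3 : eval μ (p.map f) = 0 := h2
  rwa [eval_map] at h3

/-- the norm of an integral element, for a finite free algebra over a domain. -/
theorem isIntegral_norm {A S C ι : Type*} [CommRing A] [CommRing S] [IsDomain S] [CommRing C]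
    [Algebra A S] [Algebra A C] [Algebra S C] [IsScalarTower A S C] [Fintype ι] [DecidableEq ι]
    (c : Basis ι S C) {x : C} (hx : IsIntegral A x) : IsIntegral A (Algebra.norm S x) := by
  obtain ⟨F, _, _, g, hg⟩ : ∃ (F : Type _) (_ : Field F) (_ : IsAlgClosed F) (g : S →+* F),
      Function.Injective g :=
    ⟨AlgebraicClosure (FractionRing S), inferInstance, inferInstance,
      (algebraMap (FractionRing S) (AlgebraicClosure (FractionRing S))).comp
        (algebraMap S (FractionRing S)),
      (algebraMap (FractionRing S) (AlgebraicClosure (FractionRing S))).injective.comp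
        (IsFractionRing.injective S (FractionRing S))⟩
  obtain ⟨p, hp, hpx⟩ := hx
  have h1 : aeval x p = 0 := hpx
  have h2 : aeval (Algebra.leftMulMatrix c x) (p.map (algebraMap A S)) = 0 := by
    rw [aeval_algHom_apply, aeval_map_algebraMap, h1, map_zero]
  have h3 : aeval ((Algebra.leftMulMatrix c x).map g) (p.map (g.comp (algebraMap A S))) = 0 := by
    have h4 := congrArg g.mapMatrix h2
    rw [map_zero, aeval_def, hom_eval₂, ← eval_map, map_map] at h4
    rw [aeval_def, ← eval_map, map_map, ← h4]
    congr 2
    ext a
    simp only [Matrix.algebraMap_eq_diagonal, RingHom.comp_apply, RingHom.mapMatrix_apply,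
      Matrix.map_apply, Matrix.diagonal_apply, Pi.algebraMap_apply, Algebra.algebraMap_self,
      RingHom.id_apply]
    split_ifs <;> simp
  obtain ⟨q, hq, hq'⟩ := isIntegralElem_det (g.comp (algebraMap A S)) _ p hp h3
  refine ⟨q, hq, hg ?_⟩
  rw [hom_eval₂, map_zero, Algebra.norm_eq_matrix_det c, RingHom.map_det]
  exact hq'

end integral

section pushout

variable {K L S C ι : Type*} [CommRing K] [CommRing L] [CommRing S] [CommRing C] [Algebra K L]
  [Algebra K S] [Algebra K C] [Algebra L C] [Algebra S C] [IsScalarTower K L C] [IsScalarTower K S C]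

/-- the basis of a base change. -/
noncomputable def basis (h : Algebra.IsPushout K S L C) (b : Basis ι K L) : Basis ι S C :=
  h.out.basis b

theorem basis_apply (h : Algebra.IsPushout K S L C) (b : Basis ι K L) (i : ι) :
    basis h b i = algebraMap L C (b i) := by
  rw [basis, IsBaseChange.basis_apply]
  rfl

end pushout

section poly

variable {K L ι σ : Type*} [CommRing K] [CommRing L] [Algebra K L]

attribute [local instance] MvPolynomial.algebraMvPolynomial

/-- the norm of `∑ b_j X_j` in the polynomial rings, `b_j` integral over `A`, has coefficients in `A`. -/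
theorem exists_norm_eq {A K L σ ι : Type*} [CommRing A] [IsDomain A] [IsIntegrallyClosed A]
    [Field K] [Algebra A K] [IsFractionRing A K] [Field L] [Algebra K L] [Algebra A L]
    [IsScalarTower A K L] [Fintype ι] [DecidableEq ι] (c : Basis ι K L)
    (f : MvPolynomial σ L) (hf : ∀ n, IsIntegral A (f.coeff n)) :
    ∃ q : MvPolynomial σ A, MvPolynomial.map (algebraMap A K) q =
      Algebra.norm (MvPolynomial σ K) f := by
  have hp : Algebra.IsPushout K (MvPolynomial σ K) L (MvPolynomial σ L) := inferInstance
  have h1 : IsIntegral (MvPolynomial σ A) f := MvPolynomial.isIntegral_iff_isIntegral_coeff.2 hf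
  have hst : IsScalarTower (MvPolynomial σ A) (MvPolynomial σ K) (MvPolynomial σ L) := by
    refine IsScalarTower.of_algebraMap_eq fun q => ?_
    change MvPolynomial.map (algebraMap A L) q =
      MvPolynomial.map (algebraMap K L) (MvPolynomial.map (algebraMap A K) q)
    rw [MvPolynomial.map_map, ← IsScalarTower.algebraMap_eq]
  have h2 := isIntegral_norm (basis hp c) h1
  have h3 := MvPolynomial.isIntegral_iff_isIntegral_coeff.1 h2
  have h4 : ∀ n, ∃ y : A, algebraMap A K y = (Algebra.norm (MvPolynomial σ K) f).coeff n :=
    fun n => IsIntegrallyClosed.isIntegral_iff.1 (h3 n)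
  have h5 : Algebra.norm (MvPolynomial σ K) f ∈
      Set.range (MvPolynomial.map (σ := σ) (algebraMap A K)) := by
    rw [MvPolynomial.mem_range_map_iff_coeffs_subset]
    rintro _ hx
    obtain ⟨n, -, rfl⟩ := MvPolynomial.mem_coeffs_iff.1 hx
    exact h4 n
  exact h5

end poly

end K91.NormBC
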