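import Groth.Agent.CAlg.K91.NormBC
import Mathlib.RingTheory.Flat.Basic

/-!
The norm `L ⊗ R → K ⊗ R` on the integral closure of an integrally closed domain (S17376).
-/

set_option autoImplicit false
universe u

open scoped TensorProduct
open Module

namespace K91.NormTensor

section

variable (k K L R : Type u) [Field k] [Field K] [Algebra k K] [Field L] [Algebra K L]
  [Algebra k L] [IsScalarTower k K L] [CommRing R] [Algebra k R]

/-- the algebra structure of `L ⊗ R` over `K ⊗ R`. -/
noncomputable abbrev alg : Algebra (K ⊗[k] R) (L ⊗[k] R) :=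
  (Algebra.TensorProduct.map (IsScalarTower.toAlgHom k K L) (AlgHom.id k R)).toRingHom.toAlgebra

theorem scalarTower : letI := alg k K L R; IsScalarTower K (K ⊗[k] R) (L ⊗[k] R) := by
  let _ := alg k K L R
  refine IsScalarTower.of_algebraMap_eq fun x => ?_
  change algebraMap K L x ⊗ₜ[k] (1 : R) =
    Algebra.TensorProduct.map (IsScalarTower.toAlgHom k K L) (AlgHom.id k R) (x ⊗ₜ 1)
  rw [Algebra.TensorProduct.map_tmul]
  rfl

theorem isPushout : letI := alg k K L R; haveI := scalarTower k K L R;
    Algebra.IsPushout K (K ⊗[k] R) L (L ⊗[k] R) := by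
  let _ := alg k K L R
  have := scalarTower k K L R
  refine Algebra.IsPushout.symm (Algebra.IsPushout.tensorProduct_tensorProduct k R K L ?_)
  refine RingHom.ext fun r => ?_
  change Algebra.TensorProduct.map (IsScalarTower.toAlgHom k K L) (AlgHom.id k R) (1 ⊗ₜ r) = 1 ⊗ₜ r
  rw [Algebra.TensorProduct.map_tmul]
  simp

/-- the basis of `L ⊗ R` over `K ⊗ R` given by a basis of `L` over `K`. -/
noncomputable def basisT {ι : Type*} (b : Basis ι K L) :
    letI := alg k K L R; Basis ι (K ⊗[k] R) (L ⊗[k] R) :=
  letI := alg k K L R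
  haveI := scalarTower k K L R
  NormBC.basis (isPushout k K L R) b

theorem basisT_apply {ι : Type*} (b : Basis ι K L) (i : ι) :
    letI := alg k K L R; basisT k K L R b i = b i ⊗ₜ 1 := by
  let _ := alg k K L R
  have := scalarTower k K L R
  exact NormBC.basis_apply (isPushout k K L R) b i

end

section

variable (k A K L R : Type u) [Field k]
    [CommRing A] [IsDomain A] [IsIntegrallyClosed A] [Algebra k A]
    [Field K] [Algebra A K] [IsFractionRing A K] [Algebra k K] [IsScalarTower k A K]
    [Field L] [Algebra K L] [FiniteDimensional K L] [Algebra A L] [IsScalarTower A K L]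
    [Algebra k L] [IsScalarTower k K L] [IsScalarTower k A L]
    [CommRing R] [Algebra k R]

attribute [local instance] MvPolynomial.algebraMvPolynomial

theorem norm_mem (β : (integralClosure A L) ⊗[k] R) :
    letI := alg k K L R
    Algebra.norm (K ⊗[k] R)
      (Algebra.TensorProduct.map ((integralClosure A L).val.restrictScalars k) (AlgHom.id k R) β) ∈
        Set.range (Algebra.TensorProduct.map (IsScalarTower.toAlgHom k A K) (AlgHom.id k R)) := by
  classical
  let _ := alg k K L R
  have hst := scalarTower k K L R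
  obtain ⟨S, hS⟩ := TensorProduct.exists_finset β
  let b := Module.finBasis K L
  let σ := (integralClosure A L) × R
  let f : MvPolynomial σ L := ∑ i ∈ S, MvPolynomial.C (i.1 : L) * MvPolynomial.X i
  have hf : ∀ n, IsIntegral A (f.coeff n) := by
    intro n
    simp only [f, MvPolynomial.coeff_sum, MvPolynomial.coeff_C_mul, MvPolynomial.coeff_X]
    refine IsIntegral.sum _ fun i _ => ?_
    split_ifs
    · rw [mul_one]; exact i.1.2
    · rw [mul_zero]; exact isIntegral_zero
  obtain ⟨q, hq⟩ := NormBC.exists_norm_eq (A := A) b f hf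
  let ψ : MvPolynomial σ K →ₐ[K] K ⊗[k] R := MvPolynomial.aeval fun i : σ => 1 ⊗ₜ i.2
  let φ : MvPolynomial σ L →ₐ[L] L ⊗[k] R := MvPolynomial.aeval fun i : σ => 1 ⊗ₜ i.2
  let χ : MvPolynomial σ A →ₐ[A] A ⊗[k] R := MvPolynomial.aeval fun i : σ => 1 ⊗ₜ i.2
  have hφψ : φ.toRingHom.comp (algebraMap (MvPolynomial σ K) (MvPolynomial σ L)) =
      (algebraMap (K ⊗[k] R) (L ⊗[k] R)).comp ψ.toRingHom := by
    refine MvPolynomial.ringHom_ext ?_ ?_
    · intro c
      change φ (MvPolynomial.map (algebraMap K L) (MvPolynomial.C c)) =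
        algebraMap (K ⊗[k] R) (L ⊗[k] R) (ψ (MvPolynomial.C c))
      rw [MvPolynomial.map_C, MvPolynomial.aeval_C, MvPolynomial.aeval_C,
        ← IsScalarTower.algebraMap_apply K (K ⊗[k] R) (L ⊗[k] R),
        ← IsScalarTower.algebraMap_apply K L (L ⊗[k] R)]
    · intro i
      change φ (MvPolynomial.map (algebraMap K L) (MvPolynomial.X i)) =
        algebraMap (K ⊗[k] R) (L ⊗[k] R) (ψ (MvPolynomial.X i))
      rw [MvPolynomial.map_X, MvPolynomial.aeval_X, MvPolynomial.aeval_X]
      change _ = Algebra.TensorProduct.map (IsScalarTower.toAlgHom k K L) (AlgHom.id k R) (1 ⊗ₜ i.2)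
      rw [Algebra.TensorProduct.map_tmul, map_one]
      rfl
  have hnorm := NormBC.norm_map (NormBC.basis (K := K) (L := L) (S := MvPolynomial σ K)
    (C := MvPolynomial σ L) inferInstance b) (basisT k K L R b)
    ψ.toRingHom φ.toRingHom (fun s => RingHom.congr_fun hφψ s) (fun i => by
      rw [NormBC.basis_apply, basisT_apply]
      change φ (MvPolynomial.C (b i)) = _
      rw [MvPolynomial.aeval_C]
      rfl) f
  have hφf : φ f = Algebra.TensorProduct.map ((integralClosure A L).val.restrictScalars k)
      (AlgHom.id k R) β := by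
    rw [hS, map_sum, map_sum]
    refine Finset.sum_congr rfl fun i _ => ?_
    rw [map_mul, MvPolynomial.aeval_C, MvPolynomial.aeval_X, Algebra.TensorProduct.map_tmul]
    change (i.1 : L) ⊗ₜ[k] (1 : R) * (1 ⊗ₜ i.2) = _
    rw [Algebra.TensorProduct.tmul_mul_tmul, mul_one, one_mul]
    rfl
  have h1 : ∀ q : MvPolynomial σ A, ψ (MvPolynomial.map (algebraMap A K) q) =
      Algebra.TensorProduct.map (IsScalarTower.toAlgHom k A K) (AlgHom.id k R) (χ q) := by
    intro q
    induction q using MvPolynomial.induction_on with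
    | C a =>
      rw [MvPolynomial.map_C, MvPolynomial.aeval_C, MvPolynomial.aeval_C]
      change algebraMap A K a ⊗ₜ[k] (1 : R) =
        Algebra.TensorProduct.map (IsScalarTower.toAlgHom k A K) (AlgHom.id k R) (a ⊗ₜ 1)
      rw [Algebra.TensorProduct.map_tmul]
      rfl
    | add p q hp hq => rw [map_add, map_add, map_add, map_add, hp, hq]
    | mul_X p i hp =>
      rw [map_mul, map_mul, map_mul, map_mul, hp, MvPolynomial.map_X, MvPolynomial.aeval_X,
        MvPolynomial.aeval_X, Algebra.TensorProduct.map_tmul, map_one]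
      rfl
  refine ⟨χ q, ?_⟩
  rw [← h1, hq, ← hφf]
  exact hnorm.symm

/-- the inclusion `B ⊗ R → L ⊗ R`. -/
noncomputable abbrev incl : (integralClosure A L) ⊗[k] R →ₐ[k] L ⊗[k] R :=
  Algebra.TensorProduct.map ((integralClosure A L).val.restrictScalars k) (AlgHom.id k R)

omit [IsDomain A] [IsIntegrallyClosed A] [IsFractionRing A K] [FiniteDimensional K L]
  [IsScalarTower k A K] [IsScalarTower k K L] in
theorem incl_injective : Function.Injective (incl k A L R) := by
  have h1 : Function.Injective
      (((integralClosure A L).val.restrictScalars k).toLinearMap.rTensor R) :=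
    Module.Flat.rTensor_preserves_injective_linearMap _ Subtype.val_injective
  intro x y hxy
  refine h1 ?_
  have h2 : ∀ z, ((integralClosure A L).val.restrictScalars k).toLinearMap.rTensor R z =
      incl k A L R z := fun z => rfl
  rw [h2, h2, hxy]

include K in
theorem exists_mul_eq (x : L ⊗[k] R) : ∃ a : A, a ≠ 0 ∧ ∃ y : (integralClosure A L) ⊗[k] R,
    (algebraMap A L a ⊗ₜ 1) * x = incl k A L R y := by
  induction x using TensorProduct.induction_on with
  | zero => exact ⟨1, one_ne_zero, 0, by simp⟩
  | tmul l r =>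
    have hal : IsAlgebraic A l := by
      rw [IsFractionRing.isAlgebraic_iff A K L]
      exact Algebra.IsAlgebraic.isAlgebraic l
    obtain ⟨a, ha, hal⟩ := hal.exists_integral_multiple
    refine ⟨a, ha, (⟨a • l, hal⟩ : integralClosure A L) ⊗ₜ r, ?_⟩
    rw [Algebra.TensorProduct.map_tmul, Algebra.TensorProduct.tmul_mul_tmul, one_mul,
      ← Algebra.smul_def]
    rfl
  | add x y hx hy =>
    obtain ⟨a, ha, x', hx⟩ := hx
    obtain ⟨b, hb, y', hy⟩ := hy
    refine ⟨a * b, mul_ne_zero ha hb,
      ((algebraMap A (integralClosure A L) b) ⊗ₜ 1) * x' +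
        ((algebraMap A (integralClosure A L) a) ⊗ₜ 1) * y', ?_⟩
    have hc : ∀ c : A, incl k A L R ((algebraMap A (integralClosure A L) c) ⊗ₜ 1) =
        algebraMap A L c ⊗ₜ 1 := by
      intro c
      rw [Algebra.TensorProduct.map_tmul, map_one]
      rfl
    rw [map_mul (algebraMap A L), map_add, map_mul (incl k A L R), map_mul (incl k A L R), hc, hc, ← hx, ← hy]
    have h1 : ((algebraMap A L a * algebraMap A L b) ⊗ₜ[k] (1 : R)) =
        (algebraMap A L a ⊗ₜ 1) * (algebraMap A L b ⊗ₜ 1) := by
      rw [Algebra.TensorProduct.tmul_mul_tmul, one_mul]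
    rw [h1]
    ring

include K in
theorem isRegular_incl_iff (β : (integralClosure A L) ⊗[k] R) :
    IsRegular β ↔ IsRegular (incl k A L R β) := by
  have hinj := incl_injective k A L R
  rw [isRegular_iff_mem_nonZeroDivisors, isRegular_iff_mem_nonZeroDivisors,
    mem_nonZeroDivisors_iff_right, mem_nonZeroDivisors_iff_right]
  constructor
  · intro h x hx
    obtain ⟨a, ha, y, hy⟩ := exists_mul_eq k A K L R x
    have h1 : y * β = 0 := by
      refine hinj ?_
      rw [map_mul, ← hy, map_zero, mul_assoc, hx, mul_zero]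
    have h2 := h y h1
    rw [h2, map_zero] at hy
    have ha' : algebraMap A L a ≠ 0 := by
      rw [IsScalarTower.algebraMap_apply A K L]
      intro h0
      rw [map_eq_zero_iff _ (algebraMap K L).injective,
        map_eq_zero_iff _ (IsFractionRing.injective A K)] at h0
      exact ha h0
    have h3 : ((algebraMap A L a)⁻¹ ⊗ₜ[k] (1 : R)) * (algebraMap A L a ⊗ₜ 1) = 1 := by
      rw [Algebra.TensorProduct.tmul_mul_tmul, inv_mul_cancel₀ ha', one_mul]
      rfl
    calc x = (((algebraMap A L a)⁻¹ ⊗ₜ[k] (1 : R)) * (algebraMap A L a ⊗ₜ 1)) * x := by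
          rw [h3, one_mul]
      _ = 0 := by rw [mul_assoc, hy, mul_zero]
  · intro h y hy
    refine hinj ?_
    rw [map_zero]
    refine h _ ?_
    rw [← map_mul, hy, map_zero]

end

end K91.NormTensor
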