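import Groth.Agent.CAlg.K91.Decay3
import Mathlib.RingTheory.AdicCompletion.Noetherian
import Mathlib.RingTheory.AdicCompletion.Exactness
import Mathlib.RingTheory.Noetherian.Basic
import Mathlib.RingTheory.LocalRing.RingHom.Basic

/-!
Square-zero extensions of complete Noetherian local rings by finite modules.

* `isPrecomplete_of_surjective`: a quotient of an `I`-adically precomplete module is precomplete.
* `isPrecomplete_of_exact`: extensions of precomplete finite modules over a Noetherian ring.
* `isAdicComplete_comap`: a square-zero extension `E → A` with finitely generated kernel of a complete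
  Noetherian local ring is complete for the inverse image of the maximal ideal.
-/

set_option autoImplicit false
universe u v w

namespace K91.SqZero

section general

variable {R : Type u} [CommRing R] (I : Ideal R)

theorem isPrecomplete_of_surjective {P : Type v} [AddCommGroup P] [Module R P]
    {Q : Type w} [AddCommGroup Q] [Module R Q] [IsPrecomplete I P] (φ : P →ₗ[R] Q)
    (hφ : Function.Surjective φ) : IsPrecomplete I Q := by
  rw [← AdicCompletion.of_surjective_iff]
  intro y
  obtain ⟨x, rfl⟩ := AdicCompletion.map_surjective I hφ y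
  obtain ⟨p, rfl⟩ := AdicCompletion.of_surjective I P x
  exact ⟨φ p, (AdicCompletion.map_of I φ p).symm⟩

theorem isPrecomplete_finsupp (Z : Type v) [Finite Z] (M : Type w) [AddCommGroup M] [Module R M]
    [IsPrecomplete I M] : IsPrecomplete I (Z →₀ M) := by
  classical
  refine ⟨fun f hf => ?_⟩
  have hz : ∀ z, ∃ L : M, ∀ n : ℕ, f n z ≡ L [SMOD (I ^ n • ⊤ : Submodule R M)] := by
    intro z
    refine IsPrecomplete.prec (I := I) inferInstance ?_
    intro m n hmn
    rw [SModEq.sub_mem]
    exact (K91.Decay.finsupp_mem_smul_top_iff _ _).1 (SModEq.sub_mem.1 (hf hmn)) z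
  choose L hL using hz
  refine ⟨Finsupp.equivFunOnFinite.symm L, fun n => ?_⟩
  rw [SModEq.sub_mem, K91.Decay.finsupp_mem_smul_top_iff]
  intro z
  exact SModEq.sub_mem.1 (hL z n)

/-- extensions of precomplete finite modules over a Noetherian ring are precomplete. -/
theorem isPrecomplete_of_exact [IsNoetherianRing R] {M N P : Type u} [AddCommGroup M] [Module R M]
    [AddCommGroup N] [Module R N] [AddCommGroup P] [Module R P] [Module.Finite R N]
    (f : M →ₗ[R] N) (g : N →ₗ[R] P) (hf : Function.Injective f)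
    (hfg : Function.Exact f g) (hg : Function.Surjective g)
    [IsPrecomplete I M] [IsPrecomplete I P] : IsPrecomplete I N := by
  rw [← AdicCompletion.of_surjective_iff]
  intro y
  obtain ⟨p, hp⟩ := AdicCompletion.of_surjective I P (AdicCompletion.map I g y)
  obtain ⟨n, rfl⟩ := hg p
  have h1 : AdicCompletion.map I g (y - AdicCompletion.of I N n) = 0 := by
    rw [map_sub, AdicCompletion.map_of, hp, sub_self]
  obtain ⟨x, hx⟩ := (AdicCompletion.map_exact hf hfg hg _).1 h1
  obtain ⟨m, rfl⟩ := AdicCompletion.of_surjective I M x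
  refine ⟨f m + n, ?_⟩
  rw [map_add, ← AdicCompletion.map_of, hx, sub_add_cancel]

end general

variable {A : Type u} {E : Type v} [CommRing A] [CommRing E] (f : E →+* A)

/-- for a square-zero ideal `N`, the map `a ↦ a • s` from `E ⧸ N` to `N`. -/
def mulMap (N : Ideal E) (hsq : N ^ 2 = ⊥) (s : N) : (E ⧸ N) →ₗ[E] N :=
  Submodule.liftQ N (LinearMap.toSpanSingleton E N s) (by
    intro x hx
    rw [LinearMap.mem_ker, LinearMap.toSpanSingleton_apply]
    refine Subtype.ext ?_
    have h1 : x * (s : E) ∈ N ^ 2 := by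
      rw [pow_two]
      exact Ideal.mul_mem_mul hx s.2
    rw [hsq, Ideal.mem_bot] at h1
    simpa using h1)

theorem mulMap_mk (N : Ideal E) (hsq : N ^ 2 = ⊥) (s : N) (x : E) :
    mulMap N hsq s (Submodule.Quotient.mk x) = x • s := rfl

theorem exists_surjective (N : Ideal E) (hsq : N ^ 2 = ⊥) (hfg : N.FG) :
    ∃ (n : ℕ) (φ : (Fin n →₀ (E ⧸ N)) →ₗ[E] N), Function.Surjective φ := by
  have : Module.Finite E N := Module.Finite.iff_fg.2 hfg
  obtain ⟨n, π, hπ⟩ := Module.Finite.exists_fin' E N
  let s : Fin n → N := fun i => π (Pi.single i 1)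
  refine ⟨n, Finsupp.lsum E (fun i => mulMap N hsq (s i)), fun y => ?_⟩
  obtain ⟨x, rfl⟩ := hπ y
  refine ⟨Finsupp.equivFunOnFinite.symm (fun i => Submodule.Quotient.mk (x i)), ?_⟩
  rw [Finsupp.lsum_apply, Finsupp.sum_fintype _ _ (fun i => map_zero _)]
  have h1 : x = ∑ i, x i • (Pi.single i 1 : Fin n → E) := by
    simpa using (pi_eq_sum_univ' x)
  conv_rhs => rw [h1]
  rw [map_sum]
  refine Finset.sum_congr rfl fun i _ => ?_
  rw [map_smul]
  rfl

theorem isNoetherian_quot [IsNoetherianRing A] (hf : Function.Surjective f) :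
    IsNoetherian E (E ⧸ RingHom.ker f) := by
  have h1 : IsNoetherianRing (E ⧸ RingHom.ker f) :=
    isNoetherianRing_of_ringEquiv A (RingHom.quotientKerEquivOfSurjective hf).symm
  refine ⟨fun S => ?_⟩
  have hs : Function.Surjective (algebraMap E (E ⧸ RingHom.ker f)) := Ideal.Quotient.mk_surjective
  let S' : Ideal (E ⧸ RingHom.ker f) :=
    { S.toAddSubmonoid with
      smul_mem' := fun c x hx => by
        obtain ⟨e, rfl⟩ := hs c
        exact S.smul_mem e hx }
  have h2 : S'.FG := IsNoetherian.noetherian S'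
  have h3 := Submodule.FG.restrictScalars_of_surjective (R := E) h2 hs
  exact h3

theorem isNoetherianRing_of_sqZero [IsNoetherianRing A] (hf : Function.Surjective f)
    (hsq : RingHom.ker f ^ 2 = ⊥) (hfg : (RingHom.ker f).FG) : IsNoetherianRing E := by
  have h1 := isNoetherian_quot f hf
  obtain ⟨n, φ, hφ⟩ := exists_surjective (RingHom.ker f) hsq hfg
  have h0 : IsNoetherian E (Fin n →₀ (E ⧸ RingHom.ker f)) :=
    isNoetherian_of_linearEquiv (Finsupp.linearEquivFunOnFinite E (E ⧸ RingHom.ker f) (Fin n)).symm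
  have h2 : IsNoetherian E (RingHom.ker f) :=
    isNoetherian_of_surjective φ (LinearMap.range_eq_top.2 hφ)
  exact (isNoetherian_iff_submodule_quotient (RingHom.ker f)).2 ⟨h2, h1⟩

theorem isUnit_of_isUnit_map (hf : Function.Surjective f)
    (hsq : RingHom.ker f ^ 2 = ⊥) {x : E} (hx : IsUnit (f x)) : IsUnit x := by
  obtain ⟨b, hb⟩ := hx.exists_right_inv
  obtain ⟨y, rfl⟩ := hf b
  have h1 : x * y - 1 ∈ RingHom.ker f := by
    rw [RingHom.mem_ker, map_sub, map_mul, hb, map_one, sub_self]
  have h2 : (x * y - 1) * (x * y - 1) = 0 := by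
    have := Ideal.mul_mem_mul h1 h1
    rwa [← pow_two, hsq, Ideal.mem_bot] at this
  have h3 : IsUnit (x * y) := by
    refine IsUnit.of_mul_eq_one (2 - x * y) ?_
    have h4 : x * y * (2 - x * y) = 1 - (x * y - 1) * (x * y - 1) := by ring
    rw [h4, h2, sub_zero]
  exact isUnit_of_mul_isUnit_left h3

theorem comap_le_jacobson [IsLocalRing A] (hf : Function.Surjective f)
    (hsq : RingHom.ker f ^ 2 = ⊥) :
    (IsLocalRing.maximalIdeal A).comap f ≤ (⊥ : Ideal E).jacobson := by
  intro x hx
  rw [Ideal.mem_jacobson_bot]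
  intro y
  refine isUnit_of_isUnit_map f hf hsq ?_
  rw [map_add, map_mul, map_one]
  by_contra h
  have h1 : f x * f y + 1 ∈ IsLocalRing.maximalIdeal A := h
  have h2 : f x * f y ∈ IsLocalRing.maximalIdeal A := Ideal.mul_mem_right _ _ hx
  have h3 := Ideal.sub_mem _ h1 h2
  rw [add_sub_cancel_left] at h3
  exact (Ideal.ne_top_iff_one _).1 (IsLocalRing.maximalIdeal.isMaximal A).ne_top h3

theorem isAdicComplete_comap [IsNoetherianRing A] [IsLocalRing A]
    [IsAdicComplete (IsLocalRing.maximalIdeal A) A] (hf : Function.Surjective f)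
    (hsq : RingHom.ker f ^ 2 = ⊥) (hfg : (RingHom.ker f).FG) :
    IsAdicComplete ((IsLocalRing.maximalIdeal A).comap f) E := by
  have hE := isNoetherianRing_of_sqZero f hf hsq hfg
  have hH : IsHausdorff ((IsLocalRing.maximalIdeal A).comap f) E :=
    IsHausdorff.of_le_jacobson _ E (comap_le_jacobson f hf hsq)
  let J := (IsLocalRing.maximalIdeal A).comap f
  -- `A` is precomplete as an `E`-module
  let _ : Algebra E A := f.toAlgebra
  have hmap : J.map (algebraMap E A) = IsLocalRing.maximalIdeal A :=
    Ideal.map_comap_of_surjective f hf _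
  have hA : IsAdicComplete J A := by
    rw [← IsAdicComplete.map_algebraMap_iff (S := A), hmap]
    infer_instance
  let e : (E ⧸ RingHom.ker f) ≃ₗ[E] A :=
    LinearMap.quotKerEquivOfSurjective (Algebra.linearMap E A) hf
  have hQ : IsPrecomplete J (E ⧸ RingHom.ker f) :=
    isPrecomplete_of_surjective J e.symm.toLinearMap e.symm.surjective
  obtain ⟨n, φ, hφ⟩ := exists_surjective (RingHom.ker f) hsq hfg
  have hP := isPrecomplete_finsupp J (Fin n) (E ⧸ RingHom.ker f)
  have hN : IsPrecomplete J (RingHom.ker f) := isPrecomplete_of_surjective J φ hφ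
  have hprec : IsPrecomplete J E :=
    isPrecomplete_of_exact J (RingHom.ker f).subtype (RingHom.ker f).mkQ
      (Submodule.subtype_injective _) (LinearMap.exact_subtype_mkQ _)
      (Submodule.mkQ_surjective _)
  exact { hH, hprec with }

end K91.SqZero
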